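import Cfsg.Agent.Known.Mon.Four
import Cfsg.Agent.Loc.Misc2

/-! Maximal 2-local subgroups of the Monster: definitions, counting tools, adjacency. -/

set_option autoImplicit false

namespace CF.Mx

open Cfsg Subgroup CF.Loc CF.Even CF.LX CF.Known.Mon

variable {G : Type*} [Group G]

/-- `O₂(C(x))` -/
noncomputable def QO (x : G) : Subgroup G := 𝐎[2](𝐂₁(x))

open scoped _root_.Classical in
/-- the class function which is `0` on `1` and on the class of `z` -/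
noncomputable def qq (z g : G) : ZMod 2 := if g = 1 ∨ IsConj z g then 0 else 1

/-- the polarisation of `qq` -/
noncomputable def bb (z a b : G) : ZMod 2 := qq z (a * b) + qq z a + qq z b

/-- singular subgroups -/
def Sing (z : G) (T : Subgroup G) : Prop := ∀ t ∈ T, t ≠ 1 → IsConj z t ∧ T ≤ QO t

/-- the intersection of the `QO t` -/
noncomputable def Lc (T : Subgroup G) : Subgroup G := ⨅ t ∈ T, ⨅ _ : t ≠ 1, QO t

/-- elementary abelian subgroups missing the class of `z` -/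
def Pure (z : G) (E : Subgroup G) : Prop := ∀ e ∈ E, e * e = 1 ∧ ¬ IsConj z e

/-- the orthogonal subgroups of order `2^10` -/
structure Ark (z : G) (A : Subgroup G) : Prop where
  sq : ∀ a ∈ A, a * a = 1
  card : Nat.card A = 2 ^ 10
  add : ∀ a ∈ A, ∀ b ∈ A, ∀ c ∈ A, bb z a (b * c) = bb z a b + bb z a c
  nd : ∀ a ∈ A, (∀ b ∈ A, bb z a b = 0) → a = 1
  cnt : {a | a ∈ A ∧ IsConj z a}.ncard = 527
  nrm : ∀ u ∈ A, IsConj z u → QO u ≤ 𝐍(A)
  memQ : ∀ u ∈ A, IsConj z u → ∀ a ∈ A, a ∈ QO u ↔ bb z u a = 0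
  cen : ∀ u ∈ A, IsConj z u → 𝐂(A ⊓ QO u) ≤ 𝐂(A)
  cardK : Nat.card 𝐂(A) = 2 ^ 26
  ctr : 𝐂(A) ⊓ 𝐂(𝐂(A)) ≤ A
  refl : ∀ t ∈ 𝐍(A), ∀ w ∈ A, ¬ IsConj z w →
    (∀ a ∈ A, t * a * t⁻¹ = a ∨ t * a * t⁻¹ = w * a) → t ∈ 𝐂(A)

/-- the centraliser of `z` is of Monster type -/
def B0 (z : G) : Prop := Nonempty (MT (QO z) z)

/-- the facts read off from the model -/
structure Mo (z : G) (A₀ : Subgroup G) : Prop where
  b0 : B0 z
  ark : Ark z A₀
  rk : ∀ X : Subgroup G, (∀ a ∈ X, a * a = 1) → Nat.card X ≤ 2 ^ 15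
  gd : ∀ v, v * v = 1 → v * z = z * v → v ∉ QO z →
    (∃ s ∈ QO z, IsConj z s ∧ s ≠ z ∧ v ∈ QO s) ∧ (IsConj z v ∨ IsConj z (z * v))
  tri : ∀ s ∈ QO z, IsConj z s → s ≠ z → ∀ v ∈ QO s, v * z = z * v → v ∉ QO z →
    (∃ g, z ∈ cj[g] A₀ ∧ ∃ y ∈ cj[g] A₀, y ∉ QO z ∧ v * y ∈ QO z) ∨
      ∀ q ∈ QO z, q * q = 1 → q * v = v * q → q ∈ QO s
  s4 : ∀ T T', Sing z T → Sing z T' → Nat.card T = 4 → Nat.card T' = 4 → ∃ g, T' = cj[g] T
  s8 : ∀ T T', Sing z T → Sing z T' → Nat.card T = 8 → Nat.card T' = 8 → ∃ g, T' = cj[g] T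
  s16 : ∀ T T', Sing z T → Sing z T' → Nat.card T = 16 → Nat.card T' = 16 → ∃ g, T' = cj[g] T
  fano : ∃ T p, Sing z T ∧ Nat.card T = 16 ∧ Nat.card (Lc T) ≤ 128 ∧ IsConj z p ∧ p ∉ T ∧
    p ∈ Lc T ∧ ∃ A : Fin 3 → Subgroup G, Function.Injective A ∧
      ∀ i, Ark z (A i) ∧ T ≤ A i ∧ p ∈ A i
  two : ∀ a b : G, a * a = 1 → b * b = 1 → a ≠ 1 → b ≠ 1 → ¬ IsConj z a → ¬ IsConj z b →
    IsConj a b
  a2 : ∃ E ≤ QO z, Pure z E ∧ Nat.card E = 2 ∧
    ∀ X ≤ 𝐂(E), IsPGroup 2 X → ∃ g ∈ 𝐂(E), cj[g] X ≤ 𝐂₁(z)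
  a4 : ∃ E ≤ QO z, Pure z E ∧ Nat.card E = 4 ∧
    ∀ X ≤ 𝐂(E), IsPGroup 2 X → ∃ g ∈ 𝐂(E), cj[g] X ≤ 𝐂₁(z)
  p4 : ∀ E ≤ QO z, ∀ E' ≤ QO z, Pure z E → Pure z E' → Nat.card E = 4 → Nat.card E' = 4 →
    ∃ g, E' = cj[g] E
  p8 : ∀ E ≤ QO z, Pure z E → Nat.card E ≤ 4

/-! ### counting tools -/

theorem z2 (a : ZMod 2) : a = 0 ∨ a = 1 := by revert a; decide

theorem inv_eq {a : G} (h : a * a = 1) : a⁻¹ = a := inv_eq_of_mul_eq_one_right h

theorem comm_of_sq {X : Subgroup G} (h : ∀ a ∈ X, a * a = 1) {a b : G} (ha : a ∈ X) (hb : b ∈ X) :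
    a * b = b * a := CF.Invol.commute_of_forall_mul_self h ha hb

theorem pg_of_sq {X : Subgroup G} (h : ∀ a ∈ X, a * a = 1) : IsPGroup 2 X :=
  isPGroup_iff_forall.2 fun a ha => ⟨1, by simpa [sq] using h a ha⟩

theorem sq_sup {X Y : Subgroup G} (hX : ∀ a ∈ X, a * a = 1) (hY : ∀ a ∈ Y, a * a = 1)
    (h : Y ≤ 𝐂(X)) : ∀ a ∈ X ⊔ Y, a * a = 1 := fun a ha => by
  obtain ⟨x, hx, y, hy, rfl⟩ := (mem_sup_of_le_normalizer (h.trans (centralizer_le_normalizer _))).1 ha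
  rw [mul_assoc, ← mul_assoc y, ← h hy x hx, mul_assoc, hY y hy, mul_one, hX x hx]

theorem sq_zp {a : G} (h : a * a = 1) : ∀ b ∈ zpowers a, b * b = 1 := by
  rintro _ ⟨n, rfl⟩
  simp only
  rw [← (Commute.refl a).mul_zpow, h, one_zpow]

theorem half {X Y : Subgroup G} (h : ∀ a ∈ X, ∀ b ∈ X, a ∉ Y → b ∉ Y → a * b ∈ Y) :
    Nat.card X ≤ 2 * Nat.card ↥(X ⊓ Y) := by
  have d : Y.relIndex X ∣ 2 := relIndex_dvd_two_iff.2 (by
    by_cases e : ∃ a ∈ X, a ∉ Y
    · obtain ⟨a, ha, e⟩ := e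
      exact ⟨a, ha, fun b hb => (em (b ∈ Y)).symm.imp (fun k => h b hb a ha k e) id⟩
    · exact ⟨1, one_mem _, fun b hb => Or.inr (by_contra fun k => e ⟨b, hb, k⟩)⟩)
  rw [← card_inf_mul_relIndex Y X, inf_comm, mul_comm]
  exact Nat.mul_le_mul_right _ (Nat.le_of_dvd two_pos d)

theorem two_le [Finite G] {X Y : Subgroup G} (h : X ≤ Y) {a : G} (ha : a ∈ Y) (hn : a ∉ X) :
    2 * Nat.card X ≤ Nat.card Y := by
  have e := card_mul_relIndex h
  have n1 : X.relIndex Y ≠ 1 := fun k => hn (relIndex_eq_one.1 k ha)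
  have n0 : X.relIndex Y ≠ 0 := fun k => by rw [k] at e; exact Nat.card_pos.ne' e.symm
  rw [← e, mul_comm]
  exact Nat.mul_le_mul_left _ (by omega)

theorem mul_mem_of_card [Finite G] {X Y : Subgroup G} (h : Y ≤ X)
    (c : Nat.card X ≤ 2 * Nat.card Y) {a b : G} (ha : a ∈ X) (hb : b ∈ X) (ha' : a ∉ Y)
    (hb' : b ∉ Y) : a * b ∈ Y := by
  have e := card_mul_relIndex h
  have f := two_le h ha ha'
  refine mul_mem_of_relIndex_two (Nat.eq_of_mul_eq_mul_left (Nat.card_pos (α := Y)) ?_) ha hb ha' hb'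
  omega

theorem exists_not_mem [Finite G] {X Y : Subgroup G} (h : Nat.card Y < Nat.card X) :
    ∃ a ∈ X, a ∉ Y := by
  by_contra k
  push Not at k
  exact h.not_ge (card_le_card_of_le k)

theorem exists_ne [Finite G] {X : Subgroup G} (h : 2 < Nat.card X) (a : G) :
    ∃ b ∈ X, b ≠ 1 ∧ b ≠ a := by
  by_contra k
  push Not at k
  have : (X : Set G) ⊆ {1, a} := fun b hb => (em (b = 1)).imp id (k b hb)
  have := (Set.ncard_le_ncard this).trans (Set.ncard_insert_le _ _)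
  rw [Set.ncard_singleton, ← Nat.card_coe_set_eq] at this
  exact absurd this (by change ¬ Nat.card X ≤ _; omega)

theorem mem_four [Finite G] {Z : Subgroup G} (h : Nat.card Z ≤ 4) {s t : G} (hs : s ∈ Z)
    (ht : t ∈ Z) (s1 : s ≠ 1) (t1 : t ≠ 1) (st : s ≠ t) (ss : s * s = 1) {a : G} (ha : a ∈ Z) :
    a = 1 ∨ a = s ∨ a = t ∨ a = s * t := by
  have o : orderOf s = 2 := orderOf_eq_prime (by rwa [sq]) s1
  by_contra k
  push Not at k
  have m : ∀ {b}, b ∈ zpowers s ↔ b = 1 ∨ b = s := mem_zpowers_invol o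
  have := mul_mem_of_card (zpowers_le.2 hs) (by rw [Nat.card_zpowers, o]; exact h) ha (inv_mem ht)
    (by rw [m]; tauto) (by rw [inv_mem_iff, m]; tauto)
  rw [m, mul_inv_eq_one, mul_inv_eq_iff_eq_mul] at this
  tauto

theorem exists_sub [Finite G] {T : Subgroup G} (h : IsPGroup 2 T) {n : ℕ}
    (c : 2 ^ n < 2 * Nat.card T) : ∃ T' ≤ T, Nat.card T' = 2 ^ n := by
  obtain ⟨k, e⟩ := h.exists_card_eq
  obtain ⟨H, e⟩ := Sylow.exists_subgroup_card_pow_prime_of_le_card (n := n) Nat.prime_two h (by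
    rw [e, ← pow_succ'] at c
    exact e ▸ Nat.pow_le_pow_right two_pos (Nat.lt_succ_iff.1 ((Nat.pow_lt_pow_iff_right
      one_lt_two).1 c)))
  exact ⟨H.map T.subtype, map_subtype_le _, by rwa [card_map_of_injective (subtype_injective _)]⟩

/-- a set of involutions closed under products of distinct elements -/
def sub1 (P : G → Prop) (sq : ∀ s, P s → s * s = 1)
    (mul : ∀ s t, P s → P t → s ≠ t → P (s * t)) : Subgroup G where
  carrier := {s | s = 1 ∨ P s}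
  one_mem' := Or.inl rfl
  mul_mem' := by
    rintro s t (rfl | a) (rfl | b)
    exacts [Or.inl (mul_one _), Or.inr (by rwa [one_mul]), Or.inr (by rwa [mul_one]),
      (em (s = t)).imp (fun e => by subst e; exact sq s a) (mul s t a b)]
  inv_mem' := by
    rintro s (rfl | a)
    exacts [Or.inl inv_one, Or.inr (by rwa [inv_eq (sq s a)])]

theorem exists_fix [Finite G] {R : Subgroup G} (hR : IsPGroup 2 R) (P : G → Prop)
    (sq : ∀ s, P s → s * s = 1) (mul : ∀ s t, P s → P t → s ≠ t → P (s * t))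
    (inv : ∀ r ∈ R, ∀ s, P s → P (r * s * r⁻¹)) {s : G} (hs : P s) (s1 : s ≠ 1) :
    ∃ t, P t ∧ t ∈ 𝐂(R) := by
  obtain ⟨⟨t, a, b⟩, c⟩ := ne_bot_iff_exists_ne_one.1 (inf_centralizer_ne_bot (Q := sub1 P sq mul)
    (pg_of_sq fun a ha => ha.elim (fun e => by simp [e]) (sq a)) hR
    (fun r hr => mem_normalizer_of_conj_mem fun x hx =>
      hx.imp (fun e => by simp [e]) (inv r hr x)) fun e => s1 (mem_bot.1 (e ▸ Or.inr hs)))
  exact ⟨t, a.resolve_left fun e => c (Subtype.ext e), b⟩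

theorem cover {X A B C : Subgroup G} (sq : ∀ a ∈ X, a * a = 1)
    (h : ∀ x ∈ X, x ∈ A ∨ x ∈ B ∨ x ∈ C) (bc : B ⊓ C ≤ A) (nB : ¬ X ≤ B) (nC : ¬ X ≤ C) :
    ∀ a ∈ X, ∀ b ∈ X, a ∉ A → b ∉ A → a * b ∈ A := by
  have F : ∀ u ∈ X, ∀ v ∈ X, u ∉ A → v ∉ A → u ∈ B → v ∈ C → u * v ∈ A :=
    fun u hu v hv a b c d => by
      rcases h _ (mul_mem hu hv) with e | e | e
      exacts [e, absurd (bc ⟨(B.mul_mem_cancel_left c).1 e, d⟩) b,
        absurd (bc ⟨c, (C.mul_mem_cancel_right d).1 e⟩) a]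
  have K : ∀ {u v c}, v ∈ X → u * c ∈ A → v * c ∈ A → u * v ∈ A := fun {u v c} hv a b => by
    have := mul_mem a (inv_mem b)
    rwa [mul_inv_rev, ← mul_assoc, mul_inv_cancel_right, inv_eq (sq v hv)] at this
  have N : ∀ {D a}, ¬ X ≤ D → a ∈ X → a ∉ A → a ∈ D → ∃ c ∈ X, c ∉ A ∧ c ∉ D := by
    intro D a n ha a1 a2
    obtain ⟨c, hc, e⟩ := SetLike.not_le_iff_exists.1 n
    by_cases k : c ∈ A
    exacts [⟨_, mul_mem hc ha, by rwa [A.mul_mem_cancel_left k], by rwa [D.mul_mem_cancel_right a2]⟩,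
      ⟨c, hc, k, e⟩]
  intro a ha b hb a1 b1
  rcases (h a ha).resolve_left a1 with p | p <;> rcases (h b hb).resolve_left b1 with q | q
  · obtain ⟨c, hc, e, f⟩ := N nB ha a1 p
    have g := ((h c hc).resolve_left e).resolve_left f
    exact K hb (F a ha c hc a1 e p g) (F b hb c hc b1 e q g)
  · exact F a ha b hb a1 b1 p q
  · exact comm_of_sq sq ha hb ▸ F b hb a ha b1 a1 q p
  · obtain ⟨c, hc, e, f⟩ := N nC ha a1 p
    have g := ((h c hc).resolve_left e).resolve_right f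
    exact K hb (comm_of_sq sq ha hc ▸ F c hc a ha e a1 g p) (comm_of_sq sq hb hc ▸ F c hc b hb e b1 g q)

/-- double counting with equality -/
theorem dc {α β : Type*} [Finite α] [Finite β] (s : Set α) (t : Set β) (r : α → β → Prop)
    {m n : ℕ} (h1 : ∀ a ∈ s, m ≤ {b | b ∈ t ∧ r a b}.ncard)
    (h2 : ∀ b ∈ t, {a | a ∈ s ∧ r a b}.ncard ≤ n) :
    s.ncard * m ≤ t.ncard * n ∧
      (t.ncard * n ≤ s.ncard * m → ∀ b ∈ t, {a | a ∈ s ∧ r a b}.ncard = n) := by
  classical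
  lift s to Finset α using s.toFinite
  lift t to Finset β using t.toFinite
  have e1 : ∀ a, {b | b ∈ (t : Set β) ∧ r a b}.ncard = (t.bipartiteAbove r a).card := fun a => by
    rw [← Set.ncard_coe_finset]; congr 1; ext; simp
  have e2 : ∀ b, {a | a ∈ (s : Set α) ∧ r a b}.ncard = (s.bipartiteBelow r b).card := fun a => by
    rw [← Set.ncard_coe_finset]; congr 1; ext; simp
  simp only [e1, e2, Set.ncard_coe_finset] at h1 h2 ⊢
  refine ⟨Finset.card_mul_le_card_mul r h1 h2, fun h => (Finset.sum_eq_sum_iff_of_le h2).1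
    (le_antisymm (Finset.sum_le_sum h2) ?_)⟩
  rw [← Finset.sum_card_bipartiteAbove_eq_sum_card_bipartiteBelow, Finset.sum_const, smul_eq_mul]
  exact h.trans (by simpa using Finset.card_nsmul_le_sum s _ m h1)

/-- counting involutions over a self-centralising subgroup -/
theorem cnt_inv [Finite G] {X M : Subgroup G} {u : G} (u1 : u ≠ 1) (uu : u * u = 1) (hM : M ≤ X)
    (sM : ∀ m ∈ M, m * m = 1) (sX : ∀ k ∈ X, k * k = 1 ∨ k * k = u)
    (mv : ∀ k ∈ X, k ∉ M → ∃ m ∈ M, k * m * k⁻¹ = u * m) :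
    2 * {k | k ∈ X ∧ k * k = 1}.ncard = Nat.card X + Nat.card M := by
  classical
  let c : G → G := fun k => Classical.epsilon fun m => m ∈ M ∧ k * m * k⁻¹ = u * m
  have hc : ∀ k ∈ X, k ∉ M → c k ∈ M ∧ k * c k * k⁻¹ = u * c k := fun k a b =>
    Classical.epsilon_spec (mv k a b)
  have cc : ∀ k, ∀ l ∈ M, c (k * l) = c k := fun k l hl => congrArg Classical.epsilon
    (funext fun m => propext (and_congr_right fun hm => by
      rw [mul_assoc k, comm_of_sq sM hl hm, mul_inv_rev, mul_assoc k, ← mul_assoc (m * l),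
        mul_inv_cancel_right, ← mul_assoc]))
  have sq : ∀ k ∈ X, k ∉ M → k * c k * (k * c k) = u * (k * k) := fun k a b => by
    obtain ⟨d, e⟩ := hc k a b
    have i := congrArg (·⁻¹) e
    simp only [mul_inv_rev, inv_inv, inv_eq uu, inv_eq (sM _ d)] at i
    have j : k * k * c k = c k * (k * k) := by
      rcases sX k a with f | f <;> rw [f]
      exacts [by simp, by rw [← e, ← i, mul_assoc]]
    calc _ = k * c k * k⁻¹ * (k * k * c k) := by group
      _ = _ := by rw [e, j, mul_assoc, ← mul_assoc (c k), sM _ d, one_mul]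
  have mp : ∀ k ∈ X, k ∉ M → k * c k ∈ X ∧ k * c k ∉ M ∧ k * c k * c (k * c k) = k :=
    fun k a b => ⟨mul_mem a (hM (hc k a b).1), by rwa [M.mul_mem_cancel_right (hc k a b).1],
      by rw [cc _ _ (hc k a b).1, mul_assoc, sM _ (hc k a b).1, mul_one]⟩
  have e : {k | k ∈ X ∧ k ∉ M ∧ k * k = 1}.ncard = {k | k ∈ X ∧ k ∉ M ∧ k * k ≠ 1}.ncard :=
    Set.ncard_congr (fun k _ => k * c k) (fun k ⟨a, b, d⟩ => ⟨(mp k a b).1, (mp k a b).2.1, by
        rwa [sq k a b, d, mul_one]⟩)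
      (fun k l ⟨a, b, _⟩ ⟨a', b', _⟩ e => by rw [← (mp k a b).2.2, e, (mp l a' b').2.2])
      fun k ⟨a, b, d⟩ => ⟨_, ⟨(mp k a b).1, (mp k a b).2.1, by
        rw [sq k a b, (sX k a).resolve_left d, uu]⟩, (mp k a b).2.2⟩
  have e1 : {k | k ∈ X ∧ k * k = 1} = (M : Set G) ∪ {k | k ∈ X ∧ k ∉ M ∧ k * k = 1} := by
    ext k
    have := @hM k
    have := sM k
    simp only [Set.mem_ofPred_eq, Set.mem_union, SetLike.mem_coe]
    tauto
  have e2 : (X : Set G) = {k | k ∈ X ∧ k * k = 1} ∪ {k | k ∈ X ∧ k ∉ M ∧ k * k ≠ 1} := by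
    ext k
    have := sM k
    simp only [Set.mem_ofPred_eq, Set.mem_union, SetLike.mem_coe]
    tauto
  have f1 := congrArg Set.ncard e1
  have f2 := congrArg Set.ncard e2
  rw [Set.ncard_union_eq (Set.disjoint_left.2 fun k a b => by simp_all)] at f1 f2
  change _ = (X : Set G).ncard + (M : Set G).ncard
  omega

/-- duality for a non-degenerate pairing -/
theorem card_pair [Finite G] {T A : Subgroup G} (b : G → G → ZMod 2) (φ : G → ZMod 2)
    (l : ∀ s ∈ T, ∀ t ∈ T, ∀ a ∈ A, b (s * t) a = b s a + b t a)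
    (r : ∀ t ∈ T, ∀ a ∈ A, ∀ c ∈ A, b t (a * c) = b t a + b t c)
    (hφ : ∀ s ∈ T, ∀ t ∈ T, φ (s * t) = φ s + φ t) (nd : ∀ t ∈ T, (∀ a ∈ A, b t a = 0) → t = 1) :
    Nat.card T * {a | a ∈ A ∧ ∀ t ∈ T, b t a = φ t}.ncard = Nat.card A := by
  classical
  have := Fintype.ofFinite G
  let sg : ZMod 2 → ℤ := fun x => if x = 0 then 1 else -1
  have s1 : ∀ x y, sg (x + y) = sg x * sg y := by decide
  have s2 : ∀ x, sg x = 1 ↔ x = 0 := by decide
  have s3 : ∀ x y : ZMod 2, x + y = 0 ↔ x = y := by decide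
  have s4 : ∀ x : ZMod 2, x = x + x → x = 0 := by decide
  have key : ∀ (X : Subgroup G) (f : G → ZMod 2), (∀ s ∈ X, ∀ t ∈ X, f (s * t) = f s + f t) →
      ∑ x : X, sg (f x) = if ∀ x ∈ X, f x = 0 then (Nat.card X : ℤ) else 0 := fun X f hf => by
    have := sum_hom_units (R := ℤ) (G := X) ⟨⟨fun x => sg (f x), (s2 _).2 (s4 _ (by
      simpa using hf 1 X.one_mem 1 X.one_mem))⟩, fun x y => by
        rw [← s1, ← hf _ x.2 _ y.2]; rfl⟩
    simp only [MonoidHom.ext_iff, MonoidHom.coe_mk, OneHom.coe_mk, MonoidHom.one_apply, s2,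
      Subtype.forall] at this
    rw [this, Nat.card_eq_fintype_card]
    split_ifs <;> simp
  have e := Finset.sum_comm (s := Finset.univ) (t := Finset.univ)
    (f := fun (t : T) (a : A) => sg (b t a + φ t))
  have e1 : ∀ t : T, ∑ a : A, sg (b t a + φ t) = if t = 1 then (Nat.card A : ℤ) else 0 := fun t => by
    simp only [s1, ← Finset.sum_mul, key A _ (r t t.2)]
    by_cases k : t = 1
    · have := s4 _ (by simpa using hφ 1 T.one_mem 1 T.one_mem)
      rw [if_pos k, if_pos fun a ha => s4 _ (by simpa [k] using l 1 T.one_mem 1 T.one_mem a ha), k]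
      simp [this, sg]
    · rw [if_neg k, if_neg fun c => k (Subtype.ext (nd t t.2 c)), zero_mul]
  have e2 : ∀ a : A, ∑ t : T, sg (b t a + φ t) =
      if ∀ t ∈ T, b t a = φ t then (Nat.card T : ℤ) else 0 := fun a => by
    rw [key T (fun t => b t a + φ t) fun s hs t ht => by rw [l s hs t ht a a.2, hφ s hs t ht]; ring]
    simp only [s3]
  simp only [e1, e2, Finset.sum_ite_eq', Finset.mem_univ, if_true, ← Finset.sum_filter,
    Finset.sum_const, nsmul_eq_mul] at e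
  rw [mul_comm, show {a | a ∈ A ∧ ∀ t ∈ T, b t a = φ t} = Subtype.val '' ((Finset.univ.filter
    fun a : A => ∀ t ∈ T, b t a = φ t : Finset A) : Set A) by ext; simp [and_comm],
    Set.ncard_image_of_injective _ Subtype.val_injective, Set.ncard_coe_finset]
  exact_mod_cast e.symm

/-! ### conjugation -/

theorem cj_QO (g x : G) : cj[g] (QO x) = QO (g * x * g⁻¹) := by
  rw [QO, cj_pCoreOf, cj_centralizer_singleton, QO]

theorem conj_mem_QO {g x a : G} : g * a * g⁻¹ ∈ QO (g * x * g⁻¹) ↔ a ∈ QO x := by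
  rw [← cj_QO, conj_mem_cj_iff]

theorem QO_comm {x a : G} (h : a ∈ QO x) : a * x = x * a := mem_c1.1 (pCoreOf_le _ _ h)

theorem conj_QO {x a g : G} (e : g * x = x * g) (h : a ∈ QO x) : g * a * g⁻¹ ∈ QO x :=
  conj_mem_of_mem_normalizer (le_normalizer_pCoreOf 2 _ (mem_c1.2 e)) h

theorem isConj_conj {z a : G} (g : G) : IsConj z (g * a * g⁻¹) ↔ IsConj z a :=
  ⟨fun h => h.trans (isConj_iff.2 ⟨g, rfl⟩).symm, fun h => h.trans (isConj_iff.2 ⟨g, rfl⟩)⟩

theorem qq_conj (z g a : G) : qq z (g * a * g⁻¹) = qq z a := by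
  rw [qq, qq, conj_eq_one_iff, isConj_conj]

theorem bb_conj (z g a b : G) : bb z (g * a * g⁻¹) (g * b * g⁻¹) = bb z a b := by
  simp only [bb, conj_mul, qq_conj]

theorem qq_eq_zero {z a : G} : qq z a = 0 ↔ a = 1 ∨ IsConj z a := by
  rw [qq]; split_ifs with h
  exacts [iff_of_true rfl h, iff_of_false (by decide) h]

theorem qq_of {z a : G} (h : IsConj z a) : qq z a = 0 := qq_eq_zero.2 (Or.inr h)

theorem qq_eq_one {z a : G} : qq z a = 1 ↔ a ≠ 1 ∧ ¬ IsConj z a := by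
  rw [← not_or, ← qq_eq_zero]; generalize qq z a = x; revert x; decide

theorem qq_mul (z a b : G) : qq z (a * b) = qq z a + qq z b + bb z a b := by
  rw [bb]; generalize qq z (a * b) = x; generalize qq z a = y; generalize qq z b = w
  revert x y w; decide

theorem mem_Lc {T : Subgroup G} {a : G} : a ∈ Lc T ↔ ∀ t ∈ T, t ≠ 1 → a ∈ QO t := by
  simp only [Lc, mem_iInf]

theorem forall_cj {g : G} {A : Subgroup G} {P : G → Prop} :
    (∀ a ∈ cj[g] A, P a) ↔ ∀ a ∈ A, P (g * a * g⁻¹) :=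
  ⟨fun h _ ha => h _ (conj_mem_cj g ha), fun h => by rintro _ ⟨a, ha, rfl⟩; exact h a ha⟩

theorem cj_Lc (g : G) (T : Subgroup G) : cj[g] (Lc T) = Lc (cj[g] T) := by
  ext a
  obtain ⟨a, rfl⟩ : ∃ b, a = g * b * g⁻¹ := ⟨g⁻¹ * a * g, by group⟩
  simp only [conj_mem_cj_iff, mem_Lc, forall_cj, conj_mem_QO, Ne, conj_eq_one_iff]

theorem Lc_anti {T T' : Subgroup G} (h : T' ≤ T) : Lc T ≤ Lc T' := fun _ ha =>
  mem_Lc.2 fun t ht => mem_Lc.1 ha t (h ht)

theorem Sing.cj {z : G} {T : Subgroup G} (h : Sing z T) (g : G) : Sing z (cj[g] T) :=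
  forall_cj.2 fun t ht t1 => by
    have := h t ht (by simpa using t1)
    exact ⟨(isConj_conj g).2 this.1, cj_QO g t ▸ cj_mono g this.2⟩

theorem Sing.mono {z : G} {T T' : Subgroup G} (h : Sing z T) (l : T' ≤ T) : Sing z T' :=
  fun t ht t1 => ⟨(h t (l ht) t1).1, l.trans (h t (l ht) t1).2⟩

theorem Sing.le {z : G} {T : Subgroup G} (h : Sing z T) : T ≤ Lc T := fun _ ha =>
  mem_Lc.2 fun t ht t1 => (h t ht t1).2 ha

theorem Pure.cj {z : G} {T : Subgroup G} (h : Pure z T) (g : G) : Pure z (cj[g] T) :=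
  forall_cj.2 fun t ht => ⟨by simp [(h t ht).1], by rw [isConj_conj]; exact (h t ht).2⟩

theorem Ark.cj {z : G} {A : Subgroup G} (h : Ark z A) (g : G) : Ark z (cj[g] A) where
  sq := forall_cj.2 fun a ha => by simp [h.sq a ha]
  card := (card_cj g A).trans h.card
  add := by simpa only [forall_cj, conj_mul, bb_conj] using h.add
  nd := by simpa only [forall_cj, bb_conj, conj_eq_one_iff] using h.nd
  cnt := by
    refine Eq.trans ?_ ((Set.ncard_image_of_injective _ (MulAut.conj g).injective).trans h.cnt)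
    congr 1
    ext a
    obtain ⟨a, rfl⟩ := (MulAut.conj g).surjective a
    rw [(MulAut.conj g).injective.mem_set_image, MulAut.conj_apply]
    exact and_congr conj_mem_cj_iff (isConj_conj g)
  nrm := by simpa only [forall_cj, isConj_conj, ← cj_QO, ← cj_normalizer, cj_le_cj_iff] using h.nrm
  memQ := by simpa only [forall_cj, isConj_conj, conj_mem_QO, bb_conj] using h.memQ
  cen := by
    simpa only [forall_cj, isConj_conj, ← cj_QO, ← cj_inf, ← cj_centralizer, cj_le_cj_iff]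
      using h.cen
  cardK := by rw [← cj_centralizer, card_cj, h.cardK]
  ctr := by simpa only [← cj_inf, ← cj_centralizer, cj_le_cj_iff] using h.ctr
  refl := by
    simpa only [← cj_normalizer, ← cj_centralizer, forall_cj, isConj_conj, conj_mul, conj_inv,
      mul_left_inj, mul_right_inj, conj_mem_cj_iff] using h.refl

/-! ### adjacency -/

namespace B0
variable {z x y s t a : G} (h : B0 z)
include h

theorem lq (hx : IsConj z x) : LQ (QO x) x := by
  obtain ⟨g, rfl⟩ := isConj_iff.1 hx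
  exact cj_QO g z ▸ h.some.lq.cj g

theorem card (hx : IsConj z x) : Nat.card (QO x) = 2 ^ 25 := by
  obtain ⟨g, rfl⟩ := isConj_iff.1 hx
  rw [← cj_QO, card_cj, h.some.card]

theorem sq (hx : IsConj z x) : x * x = 1 := (h.lq hx).zz
theorem ne (hx : IsConj z x) : x ≠ 1 := (h.lq hx).z_ne
theorem self (hx : IsConj z x) : x ∈ QO x := (h.lq hx).mem

theorem cases (hx : IsConj z x) (ha : a ∈ QO x) (hy : y ∈ QO x) :
    a * y * a⁻¹ = y ∨ a * y * a⁻¹ = x * y := (h.lq hx).conj_cases ha hy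

theorem conj_mul (hx : IsConj z x) (ha : a ∈ QO x) (a1 : a ≠ 1) (ax : a ≠ x) :
    IsConj a (x * a) :=
  let ⟨q, _, e⟩ := (h.lq hx).exists_conj' ha a1 ax; isConj_iff.2 ⟨q, e⟩

theorem mul (hx : IsConj z x) (hy : IsConj z y) (a : y ∈ QO x) (n : x ≠ y) : IsConj z (x * y) :=
  hy.trans (h.conj_mul hx a (h.ne hy) n.symm)

theorem sing_sq {T : Subgroup G} (k : Sing z T) : ∀ a ∈ T, a * a = 1 := fun a ha =>
  (em (a = 1)).elim (fun e => by simp [e]) fun e => h.sq (k a ha e).1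

variable [Finite G]

theorem symm (hx : IsConj z x) (hy : IsConj z y) (a : y ∈ QO x) : x ∈ QO y := by
  by_cases e : y = x
  · exact e ▸ h.self hy
  obtain ⟨g, rfl⟩ := isConj_iff.1 (hx.symm.trans hy)
  exact cj_QO g x ▸ (h.lq hx).mem_cj (by rw [h.card hx]; norm_num) e a

theorem inf_le (hs : IsConj z s) (ht : IsConj z t) (k : t ∈ QO s) (n : s ≠ t) :
    QO s ⊓ QO t ≤ QO (s * t) := fun a ha => by
  obtain ⟨q, hq, e⟩ := (h.lq hs).exists_conj' k (h.ne ht) n.symm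
  rw [← e, show a = q * (q⁻¹ * a * q⁻¹⁻¹) * q⁻¹ by group, conj_mem_QO]
  rcases h.cases hs (inv_mem hq) ha.1 with c | c <;> rw [c]
  exacts [ha.2, mul_mem (h.symm hs ht k) ha.2]

theorem card_inf (hs : IsConj z s) (ht : IsConj z t) (k : t ∈ QO s) (n : s ≠ t) :
    Nat.card ↥(QO s ⊓ QO t) = 2 ^ 13 := by
  obtain ⟨g, rfl⟩ := isConj_iff.1 hs
  obtain ⟨t, rfl⟩ : ∃ b, t = g * b * g⁻¹ := ⟨g⁻¹ * t * g, by group⟩
  obtain ⟨c, rfl⟩ := isConj_iff.1 ((isConj_conj g).1 ht)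
  rw [← cj_QO g, ← cj_QO g, ← cj_inf, card_cj, ← cj_QO c]
  exact h.some.card_E (h.some.pair (fun e => n (by rw [e])) (conj_mem_QO.1 k))

/-- the subgroup generated by pairwise adjacent elements is singular -/
theorem sing_closure {S : Set G} (h1 : ∀ s ∈ S, IsConj z s) (h2 : ∀ s ∈ S, ∀ t ∈ S, t ∈ QO s) :
    Sing z (closure S) := fun t ht t1 => by
  refine Or.resolve_left (a := t = 1) ?_ t1
  clear t1
  induction ht using closure_induction with
  | mem s hs => exact Or.inr ⟨h1 s hs, (closure_le _).2 (h2 s hs)⟩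
  | one => exact Or.inl rfl
  | mul s t hs ht a b =>
    rcases a with rfl | a
    · rwa [one_mul]
    rcases b with rfl | b
    · exact Or.inr (by rwa [mul_one])
    exact (em (s = t)).imp (fun e => by subst e; exact h.sq a.1) fun n => ⟨h.mul a.1 b.1 (a.2 ht) n,
      (_root_.le_inf a.2 b.2).trans (h.inf_le a.1 b.1 (a.2 ht) n)⟩
  | inv s hs a => exact a.imp (by simp) fun a => by rwa [inv_eq (h.sq a.1)]

end B0

end CF.Mx
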