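import Cfsg.Agent.Mx.A

/-! Maximal 2-local subgroups of the Monster: the orthogonal subgroups and their centralisers. -/

set_option autoImplicit false

namespace CF.Mx

open Cfsg Subgroup CF.Loc CF.Even CF.LX

variable {G : Type*} [Group G]

theorem bb_one (z a : G) : bb z a 1 = 0 := by
  rw [bb, mul_one, qq_eq_zero.2 (Or.inl rfl), add_zero, CharTwo.add_self_eq_zero]

theorem ne_zero {a : ZMod 2} : a ≠ 0 ↔ a = 1 := by revert a; decide

/-- the product of `Q_u ∩ C(A)` and `A` -/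
noncomputable def SS (A : Subgroup G) (u : G) : Subgroup G := (QO u ⊓ 𝐂(A)) ⊔ A

theorem le_SS (A : Subgroup G) (u : G) : A ≤ SS A u := le_sup_right

theorem W_le {A : Subgroup G} {u g : G} (h : g ∈ QO u) (c : g ∈ 𝐂(A)) : g ∈ SS A u :=
  mem_sup_left ⟨h, c⟩

theorem cj_SS (g : G) (A : Subgroup G) (u : G) : cj[g] (SS A u) = SS (cj[g] A) (g * u * g⁻¹) := by
  rw [SS, cj_sup, cj_inf, cj_QO, cj_centralizer, SS]

theorem conj_SS {A : Subgroup G} {g u k : G} (hg : g ∈ 𝐍(A)) (h : k ∈ SS A u) :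
    g * k * g⁻¹ ∈ SS A (g * u * g⁻¹) := by
  have := conj_mem_cj g h
  rwa [cj_SS, cj_eq_self hg] at this

namespace Ark
variable {z a b c s t u x y g q v : G} {A A' T X : Subgroup G} (k : Ark z A)
include k

theorem comm (ha : a ∈ A) (hb : b ∈ A) : a * b = b * a := comm_of_sq k.sq ha hb

theorem le_cen : A ≤ 𝐂(A) := fun _ ha _ hb => k.comm hb ha

theorem bb_comm (ha : a ∈ A) (hb : b ∈ A) : bb z a b = bb z b a := by
  rw [bb, bb, k.comm ha hb, add_right_comm]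

theorem bb_self (ha : a ∈ A) : bb z a a = 0 := by
  rw [bb, k.sq a ha, qq_eq_zero.2 (Or.inl rfl), zero_add, CharTwo.add_self_eq_zero]

theorem add' (ha : a ∈ A) (hb : b ∈ A) (hc : c ∈ A) : bb z (a * b) c = bb z a c + bb z b c := by
  rw [k.bb_comm (mul_mem ha hb) hc, k.add c hc a ha b hb, k.bb_comm ha hc, k.bb_comm hb hc]

/-- the orthogonal complement -/
def perp (T : Subgroup G) : Subgroup G where
  carrier := {a | a ∈ A ∧ ∀ t ∈ T, t ∈ A → bb z t a = 0}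
  one_mem' := ⟨A.one_mem, fun t _ _ => bb_one z t⟩
  mul_mem' a b := ⟨A.mul_mem a.1 b.1, fun t c d => by
    rw [k.add t d _ a.1 _ b.1, a.2 t c d, b.2 t c d, add_zero]⟩
  inv_mem' a := by rwa [inv_eq (k.sq _ a.1)]

theorem mem_perp (l : T ≤ A) : a ∈ k.perp T ↔ a ∈ A ∧ ∀ t ∈ T, bb z t a = 0 :=
  and_congr_right fun _ => ⟨fun h t ht => h t ht (l ht), fun h t ht _ => h t ht⟩

/-- the orthogonal complement of one element -/
def pp (ha : a ∈ A) : Subgroup G where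
  carrier := {b | b ∈ A ∧ bb z a b = 0}
  one_mem' := ⟨A.one_mem, bb_one z a⟩
  mul_mem' b c := ⟨A.mul_mem b.1 c.1, by rw [k.add a ha _ b.1 _ c.1, b.2, c.2, add_zero]⟩
  inv_mem' a := by rwa [inv_eq (k.sq _ a.1)]

theorem half_pp (l : X ≤ A) (ha : a ∈ A) : Nat.card X ≤ 2 * Nat.card ↥(X ⊓ k.pp ha) :=
  half fun b hb c hc e f => ⟨mul_mem (l hb) (l hc), by
    rw [k.add a ha b (l hb) c (l hc), ne_zero.1 fun m => e ⟨l hb, m⟩, ne_zero.1 fun m => f ⟨l hc, m⟩]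
    rfl⟩

theorem notQ (hu : u ∈ A) (bu : IsConj z u) (ha : a ∈ A) : a ∉ QO u ↔ bb z u a = 1 := by
  rw [k.memQ u hu bu a ha, ← ne_zero]

theorem halfA (hu : u ∈ A) (bu : IsConj z u) (ha : a ∈ A) (hb : b ∈ A) (a1 : a ∉ QO u)
    (b1 : b ∉ QO u) : a * b ∈ QO u := by
  rw [k.notQ hu bu ‹_›] at a1 b1
  rw [k.memQ u hu bu _ (mul_mem ha hb), k.add u hu a ha b hb, a1, b1]
  rfl

theorem perp_eq (n : Sing z T) (l : T ≤ A) : k.perp T = A ⊓ Lc T := by
  ext a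
  rw [k.mem_perp l, mem_inf, mem_Lc]
  refine and_congr_right fun ha => forall₂_congr fun t ht => ?_
  by_cases e : t = 1
  · simp [e, k.bb_comm A.one_mem ha, bb_one]
  · rw [k.memQ t (l ht) (n t ht e).1 a ha, imp_iff_right e]

/-- the form vanishes against fixed elements -/
theorem bb_fix (ha : a ∈ A) (hs : s ∈ A) (hc : c ∈ A) (e : g * a * g⁻¹ = s * a)
    (f : g * c * g⁻¹ = c) : bb z s c = 0 := by
  have := bb_conj z g a c
  rwa [e, f, k.add' hs ha hc, add_eq_right] at this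

theorem SS_le : SS A u ≤ 𝐂(A) := sup_le inf_le_right k.le_cen

theorem mem_SS : g ∈ SS A u ↔ g ∈ 𝐂(A) ∧ (u ∈ A → ∃ a ∈ A, g * a ∈ QO u) ∧ g ∈ SS A u :=
  ⟨fun h => ⟨k.SS_le h, fun hu => by
    obtain ⟨w, hw, a, ha, rfl⟩ := (mem_sup_of_le_normalizer (le_normalizer_inf
      (fun a ha => le_normalizer_pCoreOf 2 _ (mem_c1.2 (k.comm ha hu)))
      (le_normalizer_centralizer le_normalizer))).1 h
    exact ⟨a, ha, by rw [mul_assoc, k.sq a ha, mul_one]; exact hw.1⟩, h⟩, fun h => h.2.2⟩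

theorem exists_SS (hu : u ∈ A) (h : g ∈ SS A u) : ∃ a ∈ A, g * a ∈ QO u := (k.mem_SS.1 h).2.1 hu

theorem SS_of (c : g ∈ 𝐂(A)) (ha : a ∈ A) (h : g * a ∈ QO u) : g ∈ SS A u :=
  (mul_mem_cancel_right (le_SS A u ha)).1 (W_le h (mul_mem c (k.le_cen ha)))

theorem K_norm (hu : u ∈ A) : 𝐂(A) ≤ 𝐍(SS A u) := fun g hg => by
  rw [← cj_eq_self_iff, cj_SS, cj_eq_self (centralizer_le_normalizer _ hg),
    conj_eq_of_mem_centralizer hg hu]

theorem SS_half (hu : u ∈ A) (bu : IsConj z u) (ha : a ∈ SS A u) (hb : b ∈ SS A u)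
    (a1 : a ∉ QO u) (b1 : b ∉ QO u) : a * b ∈ QO u := by
  obtain ⟨c, hc, e⟩ := k.exists_SS hu ha
  obtain ⟨d, hd, f⟩ := k.exists_SS hu hb
  have := mul_mem (mul_mem e f) (inv_mem (k.halfA hu bu hc hd
    (fun m => a1 ((mul_mem_cancel_right m).1 e)) fun m => b1 ((mul_mem_cancel_right m).1 f)))
  rwa [mul_assoc a, ← mul_assoc c, k.SS_le hb c hc, mul_assoc b, ← mul_assoc a,
    mul_inv_cancel_right] at this

variable (h : B0 z)
include h

theorem exists_opp (hu : u ∈ A) (bu : IsConj z u) : ∃ y ∈ A, y ∉ QO u := by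
  by_contra n
  push Not at n
  exact h.ne bu (k.nd u hu fun b hb => (k.memQ u hu bu b hb).1 (n b hb))

theorem exists_sep (hs : s ∈ A) (bs : IsConj z s) (ht : t ∈ A) (bt : IsConj z t) (n : s ≠ t) :
    ∃ c ∈ A, c ∈ QO s ∧ c ∉ QO t := by
  by_contra m
  push Not at m
  obtain ⟨y, hy, e⟩ := k.exists_opp h ht bt
  refine n ((eq_inv_of_mul_eq_one_left (k.nd _ (mul_mem hs ht) fun a ha => ?_)).trans
    (inv_eq (h.sq bt)))
  rw [k.add' hs ht ha]
  by_cases c : a ∈ QO s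
  · rw [(k.memQ s hs bs a ha).1 c, (k.memQ t ht bt a ha).1 (m a ha c), add_zero]
  · rw [(k.notQ hs bs ha).1 c, (k.notQ ht bt ha).1 fun d => e ((mul_mem_cancel_left d).1
      (m _ (mul_mem ha hy) (k.halfA hs bs ha hy c (mt (m y hy) e))))]
    rfl

theorem opp (hs : s ∈ A) (bs : IsConj z s) (ha : a ∈ A) (n : a ∉ QO s) :
    IsConj z a ∧ ¬ IsConj z (s * a) ∨ ¬ IsConj z a ∧ IsConj z (s * a) := by
  have e := qq_mul z s a
  have a1 : a ≠ 1 := fun e => n (e ▸ one_mem _)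
  have a2 : s * a ≠ 1 := fun e => n ((mul_mem_cancel_left (h.self bs)).1 (e ▸ one_mem _))
  rw [(k.notQ hs bs ha).1 n, qq_of bs, zero_add] at e
  rcases z2 (qq z a) with c | c <;> rw [c] at e
  exacts [Or.inl ⟨(qq_eq_zero.1 c).resolve_left a1, (qq_eq_one.1 e).2⟩,
    Or.inr ⟨(qq_eq_one.1 c).2, (qq_eq_zero.1 e).resolve_left a2⟩]

theorem memK (hu : u ∈ A) (bu : IsConj z u) (hy : y ∈ A) (n : y ∉ QO u) (hq : q ∈ QO u)
    (e : q * y * q⁻¹ = y ∨ q * y * q⁻¹ = u * y) : q ∈ 𝐂(A) := by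
  have f : ∀ a ∈ A, a ∉ QO u → q * a * q⁻¹ = a ∨ q * a * q⁻¹ = u * a → q * a * q⁻¹ = a :=
    fun a ha c d => d.resolve_right fun d => by
      have := k.opp h hu bu ha c
      rw [← d, isConj_conj] at this
      tauto
  have e := f y hy n e
  have g : ∀ a ∈ A, a ∉ QO u → q * a * q⁻¹ = a := fun a ha c => f a ha c (by
    have := h.cases bu hq (k.halfA hu bu ha hy c n)
    rwa [conj_mul_conj, e, ← mul_assoc u, mul_left_inj, mul_left_inj] at this)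
  refine mem_centralizer_of_conj_eq fun a ha => (em (a ∈ QO u)).elim (fun c => ?_) (g a ha)
  simpa only [conj_mul_conj, e, mul_left_inj] using
    g _ (mul_mem ha hy) (by rwa [mul_mem_cancel_left c])

theorem memK' (hu : u ∈ A) (bu : IsConj z u) (hy : y ∈ A) (n : y ∉ QO u) (hv : v * y ∈ QO u)
    (hq : q ∈ QO u) (e : q * v = v * q) : q ∈ 𝐂(A) := k.memK h hu bu hy n hq (by
  have := h.cases bu hq hv
  rwa [conj_mul_conj, conj_eq_iff.2 e, ← mul_assoc u, ← conj_eq_iff.1 (show v * u * v⁻¹ = u by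
    have := QO_comm hv
    rwa [mul_assoc, k.comm hy hu, ← mul_assoc, ← mul_assoc, mul_left_inj, ← conj_eq_iff] at this),
    mul_assoc v, mul_right_inj, mul_right_inj] at this)

theorem memK2 (hu : u ∈ A) (bu : IsConj z u) (hv : v ∈ SS A u) (n : v ∉ QO u) (hq : q ∈ QO u)
    (e : q * v = v * q) : q ∈ 𝐂(A) :=
  let ⟨_, ha, f⟩ := k.exists_SS hu hv
  k.memK' h hu bu ha (fun m => n ((mul_mem_cancel_right m).1 f)) f hq e

theorem mem_SS_of (hu : u ∈ A) (bu : IsConj z u) (hy : y ∈ A) (n : y ∉ QO u) (hv : v * y ∈ QO u)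
    (vv : v * v = 1) : v ∈ SS A u := by
  refine (mul_mem_cancel_right (le_SS A u hy)).1 (W_le hv (k.memK h hu bu hy n hv ?_))
  rw [show v * y * y * (v * y)⁻¹ = v * y * (v * y) * y by
    rw [mul_inv_rev, inv_eq vv, inv_eq (k.sq y hy)]
    simp only [mul_assoc, k.sq y hy, mul_one]]
  exact ((h.lq bu).sq _ hv).imp (fun e => by rw [e, one_mul]) fun e => by rw [e]

theorem SS_act (hu : u ∈ A) (bu : IsConj z u) (hg : g ∈ SS A u) (ha : a ∈ QO u) (c : a ∈ 𝐂(A)) :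
    g * a * g⁻¹ = a ∨ g * a * g⁻¹ = u * a := by
  obtain ⟨b, hb, e⟩ := k.exists_SS hu hg
  have := h.cases bu e ha
  rwa [mul_inv_rev, mul_assoc g, c b hb, mul_assoc g, mul_assoc a, mul_inv_cancel_left,
    ← mul_assoc] at this

theorem SS_cases (hu : u ∈ A) (bu : IsConj z u) (hg : g ∈ SS A u) (ha : a ∈ SS A u) :
    g * a * g⁻¹ = a ∨ g * a * g⁻¹ = u * a := by
  obtain ⟨b, hb, e⟩ := k.exists_SS hu ha
  have := k.SS_act h hu bu hg e (mul_mem (k.SS_le ha) (k.le_cen hb))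
  rwa [conj_mul_conj, conj_eq_of_mem_centralizer (k.SS_le hg) hb, ← mul_assoc u, mul_left_inj,
    mul_left_inj] at this

theorem SS_sq (hu : u ∈ A) (bu : IsConj z u) (hg : g ∈ SS A u) : g * g = 1 ∨ g * g = u := by
  obtain ⟨b, hb, e⟩ := k.exists_SS hu hg
  have := (h.lq bu).sq _ e
  rwa [mul_assoc, ← mul_assoc b, k.SS_le hg b hb, mul_assoc, k.sq b hb, mul_one] at this

theorem adj2 (hs : s ∈ A) (bs : IsConj z s) (ht : t ∈ A) (bt : IsConj z t) (n : s ≠ t)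
    (e : g ∈ SS A s) (f : g ∈ SS A t) : ∃ a ∈ A, g * a ∈ QO s ∧ g * a ∈ QO t := by
  obtain ⟨a, ha, e⟩ := k.exists_SS hs e
  obtain ⟨c, hc, c1, c2⟩ := k.exists_sep h hs bs ht bt n
  by_cases m : g * a ∈ QO t
  · exact ⟨a, ha, e, m⟩
  · exact ⟨_, mul_mem ha hc, mul_assoc g a c ▸ mul_mem e c1, mul_assoc g a c ▸
      k.SS_half ht bt (mul_mem f (le_SS _ _ ha)) (le_SS _ _ hc) m c2⟩

variable [Finite G]

omit h in
theorem card_perp (l : T ≤ A) : Nat.card T * Nat.card (k.perp T) = 1024 := by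
  have := card_pair (T := T) (A := A) (bb z) 0 (fun s a t b c d => k.add' (l a) (l b) d)
    (fun t a => k.add t (l a)) (by simp) fun t a => k.nd t (l a)
  rw [k.card] at this
  rw [← show _ = 1024 from this]
  exact congrArg (fun S : Set G => _ * S.ncard) (Set.ext fun a => k.mem_perp l)

omit h in
theorem exists_fun (l : T ≤ A) (φ : G → ZMod 2) (hφ : ∀ s ∈ T, ∀ t ∈ T, φ (s * t) = φ s + φ t) :
    ∃ a ∈ A, ∀ t ∈ T, bb z t a = φ t := by
  have := card_pair (T := T) (A := A) (bb z) φ (fun s a t b c d => k.add' (l a) (l b) d)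
    (fun t a => k.add t (l a)) hφ fun t a => k.nd t (l a)
  exact Set.nonempty_of_ncard_ne_zero (s := {a | a ∈ A ∧ _}) fun e => by
    rw [e, k.card] at this; omega

omit h in
theorem iso (l : T ≤ A) (e : ∀ a ∈ T, ∀ b ∈ T, bb z a b = 0) : Nat.card T ≤ 32 := by
  have := card_le_card_of_le (H := T) fun a ha => (k.mem_perp l).2 ⟨l ha, fun t ht => e t ht a ha⟩
  have := k.card_perp l
  nlinarith

omit h in
theorem card_Lc (n : Sing z T) (l : T ≤ A) : Nat.card T * Nat.card ↥(A ⊓ Lc T) = 1024 :=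
  k.perp_eq n l ▸ k.card_perp l

omit h in
/-- a subgroup of order at least eight contains a singular element -/
theorem ex_sing (l : X ≤ A) (c : 4 < Nat.card X) : ∃ s ∈ X, IsConj z s := by
  by_contra n
  push Not at n
  obtain ⟨a, ha, a1, -⟩ := exists_ne (X := X) (by omega) 1
  have := k.half_pp l (l ha)
  obtain ⟨b, hb, b1, ba⟩ := exists_ne (X := X ⊓ k.pp (l ha)) (by omega) a
  have e := qq_mul z a b
  rw [hb.2.2, qq_eq_one.2 ⟨a1, n a ha⟩, qq_eq_one.2 ⟨b1, n b hb.1⟩, qq_eq_one.2 ⟨fun e => ba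
    ((eq_inv_of_mul_eq_one_right e).trans (inv_eq (k.sq a (l ha)))), n _ (mul_mem ha hb.1)⟩] at e
  exact absurd e (by decide)

theorem card_P (hu : u ∈ A) (bu : IsConj z u) : Nat.card ↥(A ⊓ QO u) = 2 ^ 9 := by
  obtain ⟨y, hy, e⟩ := k.exists_opp h hu bu
  have a := half fun a ha b hb => k.halfA hu bu ha hb
  have b := two_le (inf_le_left : A ⊓ QO u ≤ A) hy fun m => e m.2
  rw [k.card] at a b
  omega

omit h [Finite G] in
theorem W_eq (hu : u ∈ A) (bu : IsConj z u) : 𝐂(A ⊓ QO u) = 𝐂(A) :=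
  le_antisymm (k.cen u hu bu) (centralizer_anti inf_le_left)

theorem card_W (hu : u ∈ A) (bu : IsConj z u) : Nat.card ↥(QO u ⊓ 𝐂(A)) = 2 ^ 17 := by
  have := (h.lq bu).card_mul_card (W := A ⊓ QO u) ⟨hu, h.self bu⟩ inf_le_right
  rw [k.W_eq hu bu, k.card_P h hu bu, h.card bu] at this
  omega

theorem cent_W (hu : u ∈ A) (bu : IsConj z u) : QO u ⊓ 𝐂(QO u ⊓ 𝐂(A)) = A ⊓ QO u := by
  have := (h.lq bu).cent_cent (W := A ⊓ QO u) ⟨hu, h.self bu⟩ inf_le_right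
  rwa [k.W_eq hu bu] at this

theorem card_SS (hu : u ∈ A) (bu : IsConj z u) : Nat.card (SS A u) = 2 ^ 18 := by
  have := card_sup_mul_card_inf' (H := QO u ⊓ 𝐂(A)) (N := A) (le_normalizer_inf
    (fun a ha => le_normalizer_pCoreOf 2 _ (mem_c1.2 (k.comm ha hu)))
    (le_normalizer_centralizer le_normalizer))
  rw [inf_assoc, inf_eq_right.2 k.le_cen, inf_comm _ A, k.card_P h hu bu, k.card_W h hu bu,
    k.card] at this
  unfold SS
  omega

/-- an orthogonal subgroup is determined by a singular element and an opposite coset -/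
theorem can2 (k' : Ark z A') (hx : x ∈ A) (hx' : x ∈ A') (bx : IsConj z x) (hy : y ∈ A)
    (hv : v ∈ A') (n : y ∉ QO x) (e : y * v ∈ QO x) : A = A' := by
  have n' : v ∉ QO x := fun m => n ((mul_mem_cancel_right m).1 e)
  have w : QO x ⊓ 𝐂(A) = QO x ⊓ 𝐂(A') := le_antisymm
    (fun q hq => ⟨hq.1, k'.memK' h hx' bx hv n' e hq.1 (hq.2 y hy).symm⟩)
    fun q hq => ⟨hq.1, k.memK' h hx bx hy n (by
      simpa only [mul_inv_rev, inv_eq (k.sq y hy), inv_eq (k'.sq v hv)] using inv_mem e) hq.1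
      (hq.2 v hv).symm⟩
  have c : 𝐂(A) = 𝐂(A') := by
    rw [← k.W_eq hx bx, ← k.cent_W h hx bx, w, k'.cent_W h hx' bx, k'.W_eq hx' bx]
  have z1 : ∀ {A}, Ark z A → A = 𝐂(A) ⊓ 𝐂(𝐂(A)) := fun k =>
    le_antisymm (_root_.le_inf k.le_cen (le_centralizer_iff.1 le_rfl)) k.ctr
  rw [z1 k, c, ← z1 k']

theorem can1 (k' : Ark z A') (hx : x ∈ A) (hx' : x ∈ A') (bx : IsConj z x) (hy : y ∈ A)
    (hy' : y ∈ A') (n : y ∉ QO x) : A = A' :=
  k.can2 h k' hx hx' bx hy hy' n (k.sq y hy ▸ one_mem _)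

theorem norm_of (hx : x ∈ A) (bx : IsConj z x) (hv : v ∈ SS A x) (n : v ∉ QO x)
    (e : g * x = x * g) (f : g * v = v * g) : g ∈ 𝐍(A) := by
  obtain ⟨y, hy, m⟩ := k.exists_SS hx hv
  refine cj_eq_self_iff.1 (k.can2 h (k.cj g) hx (conj_eq_iff.2 e ▸ conj_mem_cj g hx) bx hy
    (conj_mem_cj g hy) (fun c => n ((mul_mem_cancel_right c).1 m)) ?_).symm
  have := mul_mem (inv_mem m) (conj_QO e m)
  rwa [conj_mul_conj, conj_eq_iff.2 f, mul_inv_rev, mul_assoc, inv_mul_cancel_left,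
    inv_eq (k.sq y hy)] at this

theorem inf_le (hx : x ∈ A) (bx : IsConj z x) (hy : y ∈ A) (b : IsConj z y) (n : y ∉ QO x) :
    QO x ⊓ QO y ≤ A := fun q hq => ((k.cent_W h hx bx).le ⟨hq.1, fun w hw =>
  conj_eq_iff.1 ((h.cases bx hw.1 hq.1).resolve_right fun e => n (h.symm b bx
    (((QO y).mul_mem_cancel_right hq.2).1 (e ▸ conj_QO (hw.2 y hy).symm hq.2))))⟩).1

theorem SS_inf (hx : x ∈ A) (bx : IsConj z x) (hy : y ∈ A) (b : IsConj z y) (n : y ∉ QO x)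
    (e : g ∈ SS A x) (f : g ∈ SS A y) : g ∈ A :=
  let ⟨_, ha, c⟩ := k.adj2 h hx bx hy b (fun e => n (e ▸ h.self bx)) e f
  (mul_mem_cancel_right ha).1 (k.inf_le h hx bx hy b n c)

theorem SS_mul (hs : s ∈ A) (bs : IsConj z s) (ht : t ∈ A) (bt : IsConj z t) (m : t ∈ QO s)
    (n : s ≠ t) (e : g ∈ SS A s) (f : g ∈ SS A t) : g ∈ SS A (s * t) :=
  let ⟨_, ha, c⟩ := k.adj2 h hs bs ht bt n e f
  k.SS_of (k.SS_le e) ha (h.inf_le bs bt m n c)

theorem lin (hs : s ∈ A) (bs : IsConj z s) (ht : t ∈ A) (bt : IsConj z t) (m : t ∈ QO s)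
    (n : s ≠ t) (e : g ∈ SS A s) (f : g ∈ SS A t) (e' : g ∉ QO s) (f' : g ∉ QO t) :
    g ∈ QO (s * t) := by
  obtain ⟨a, ha, c⟩ := k.adj2 h hs bs ht bt n e f
  refine (mul_mem_cancel_right ((k.memQ _ (mul_mem hs ht) (h.mul bs bt m n) a ha).2 ?_)).1
    (h.inf_le bs bt m n c)
  rw [k.add' hs ht ha, (k.notQ hs bs ha).1 fun d => e' ((mul_mem_cancel_right d).1 c.1),
    (k.notQ ht bt ha).1 fun d => f' ((mul_mem_cancel_right d).1 c.2)]
  rfl

/-! ### elements acting like the extraspecial groups -/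

omit k h [Finite G] in
/-- `g` acts on `A` like the elements of `QO t`, `t ∈ T` -/
def _root_.CF.Mx.Ei (A T : Subgroup G) (g : G) : Prop :=
  ∀ t ∈ T, t ≠ 1 → ∀ a ∈ A, a ∈ QO t → g * a * g⁻¹ = a ∨ g * a * g⁻¹ = t * a

omit h in
theorem exists_perp (n : Sing z T) (l : T ≤ A) (ha : a ∈ A) {m : ℕ} (c : 2 * m ≤ Nat.card T) :
    ∃ T' ≤ T, m ≤ Nat.card T' ∧ a ∈ Lc T' := by
  have := k.half_pp l ha
  exact ⟨_, inf_le_left, by omega, mem_Lc.2 fun t (ht : t ∈ T ⊓ k.pp ha) t1 =>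
    (k.memQ t ht.2.1 (n t ht.1 t1).1 a ha).2 (k.bb_comm ha ht.2.1 ▸ ht.2.2)⟩

omit k h in
theorem _root_.CF.Mx.Ei.fix (e : Ei A T g) {T' : Subgroup G} (l : T' ≤ T) (c : 2 < Nat.card T')
    (ha : a ∈ A) (m : a ∈ Lc T') : g * a * g⁻¹ = a := by
  obtain ⟨s, hs, s1, -⟩ := exists_ne c 1
  obtain ⟨t, ht, t1, n⟩ := exists_ne c s
  exact (e s (l hs) s1 a ha (mem_Lc.1 m s hs s1)).elim id fun p =>
    (e t (l ht) t1 a ha (mem_Lc.1 m t ht t1)).resolve_right fun q =>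
      n (mul_right_cancel (q.symm.trans p))

omit h in
theorem H8 (n : Sing z T) (l : T ≤ A) (c : 8 ≤ Nat.card T) (e : Ei A T g) : g ∈ 𝐂(A) :=
  mem_centralizer_of_conj_eq fun _ ha =>
    let ⟨_, p, q, r⟩ := k.exists_perp n l ha (m := 4) c
    e.fix p (by omega) ha r

theorem h8 (n : Sing z T) (l : T ≤ A) (c : 8 ≤ Nat.card T) : Lc T ≤ 𝐂(A) := fun _ hg =>
  k.H8 n l c fun t ht t1 _ _ m => h.cases (n t ht t1).1 (mem_Lc.1 hg t ht t1) m

omit h in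
theorem H4 (n : Sing z T) (l : T ≤ A) (c : Nat.card T = 4) (e : Ei A T g) (hg : g ∉ 𝐂(A))
    (ha : a ∈ A) : (g * a * g⁻¹ = a → a ∈ Lc T) ∧
      (g * a * g⁻¹ = a ∨ ∃ s ∈ T, s ≠ 1 ∧ g * a * g⁻¹ = s * a) := by
  have mv : ∀ a ∈ A, g * a * g⁻¹ = a ∨ ∃ s ∈ T, s ≠ 1 ∧ a ∈ QO s ∧ g * a * g⁻¹ = s * a := by
    intro a ha
    obtain ⟨T', p, q, r⟩ := k.exists_perp n l ha (m := 2) c.ge
    obtain ⟨s, hs, s1⟩ := exists_not_mem (X := T') (Y := ⊥) (by rwa [card_bot])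
    exact (e s (p hs) s1 a ha (mem_Lc.1 r s hs s1)).imp id fun f =>
      ⟨s, p hs, s1, mem_Lc.1 r s hs s1, f⟩
  refine ⟨fun f => ?_, (mv a ha).imp id fun ⟨s, p, q, _, r⟩ => ⟨s, p, q, r⟩⟩
  obtain ⟨b, hb, b1⟩ : ∃ b ∈ A, g * b * g⁻¹ ≠ b := by
    by_contra m
    push Not at m
    exact hg (mem_centralizer_of_conj_eq m)
  obtain ⟨s, hs, s1, s2, s3⟩ := (mv b hb).resolve_left b1
  have bs := (n s hs s1).1
  obtain ⟨d, hd, d1⟩ : ∃ y ∈ A, bb z s y ≠ 0 := by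
    by_contra m
    push Not at m
    exact s1 (k.nd s (l hs) m)
  obtain ⟨t, ht, t1, t2, t3⟩ := (mv d hd).resolve_left fun m => d1 (k.bb_fix hb (l hs) hd s3 m)
  have ts : s ≠ t := fun m => d1 ((k.memQ s (l hs) bs d hd).1 (m ▸ t2))
  have p := k.bb_fix hb (l hs) ha s3 f
  have q := k.bb_fix hd (l ht) ha t3 f
  refine mem_Lc.2 fun r hr r1 => (k.memQ r (l hr) (n r hr r1).1 a ha).2 ?_
  rcases mem_four c.le hs ht s1 t1 ts (k.sq s (l hs)) hr with m | m | m | m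
  exacts [absurd m r1, m ▸ p, m ▸ q, by rw [m, k.add' (l hs) (l ht) ha, p, q, add_zero]]

end Ark

end CF.Mx
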