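import Cfsg.Agent.Mx.B

/-! Maximal 2-local subgroups of the Monster: involutions of the centraliser of an orthogonal
subgroup. -/

set_option autoImplicit false

namespace CF.Mx

open Cfsg Subgroup CF.Loc CF.Even CF.LX

variable {G : Type*} [Group G]

theorem mem_zp {g x : G} (gg : g * g = 1) : x ∈ zpowers g ↔ x = 1 ∨ x = g := by
  by_cases e : g = 1
  · simp [e]
  · exact mem_zpowers_invol (orderOf_eq_prime (by rwa [sq]) e)

theorem mem_ad {X : Subgroup G} {g x : G} (n : g ∈ 𝐍(X)) (gg : g * g = 1) :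
    x ∈ X ⊔ zpowers g ↔ x ∈ X ∨ x * g ∈ X := by
  refine ⟨fun h => ?_, fun h => h.elim mem_sup_left fun h => (mul_mem_cancel_right
    (mem_sup_right (mem_zpowers g))).1 (mem_sup_left h)⟩
  obtain ⟨a, ha, b, hb, rfl⟩ := (mem_sup_of_le_normalizer (zpowers_le.2 n)).1 h
  rcases (mem_zp gg).1 hb with rfl | rfl
  exacts [Or.inl (by rwa [mul_one]), Or.inr (by rwa [mul_assoc, gg, mul_one])]

theorem card_ad [Finite G] {X : Subgroup G} {g : G} (n : g ∈ 𝐍(X)) (gg : g * g = 1) (m : g ∉ X) :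
    Nat.card ↥(X ⊔ zpowers g) = 2 * Nat.card X := by
  have a := card_sup_le_mul (A := X) (zpowers_le.2 n)
  rw [Nat.card_zpowers, orderOf_eq_prime (p := 2) (by rwa [sq]) fun e => m (by simp [e])] at a
  have := two_le (le_sup_left : X ≤ X ⊔ zpowers g) (mem_sup_right (mem_zpowers g)) m
  omega

theorem ncard_split [Finite G] {s t u : Set G} (h : ∀ x, (x ∈ s ↔ x ∈ t ∨ x ∈ u) ∧ (x ∈ t → x ∉ u)) :
    s.ncard = t.ncard + u.ncard := by
  rw [← Set.ncard_union_eq (Set.disjoint_left.2 fun x => (h x).2)]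
  exact congrArg _ (Set.ext fun x => (h x).1)

theorem ncard_coe (X : Subgroup G) : (X : Set G).ncard = Nat.card X := rfl

namespace Ark
variable [Finite G] {z a s t u x y g l : G} {A T X : Subgroup G} (k : Ark z A) (h : B0 z)
include k h

section MM
variable (hu : u ∈ A) (bu : IsConj z u) (hs : s ∈ A) (bs : IsConj z s) (n : u ≠ s)
include hu bu hs bs n

omit [Finite G] in
theorem MM_sq : ∀ g ∈ SS A u ⊓ SS A s, g * g = 1 := fun _ hg =>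
  (k.SS_sq h hu bu hg.1).elim id fun e => (k.SS_sq h hs bs hg.2).elim id fun f =>
    absurd (e.symm.trans f) n

variable (m : s ∈ QO u)
include m

theorem MM_card : Nat.card ↥(SS A u ⊓ SS A s) = 2 ^ 14 ∧
    QO u ⊓ 𝐂(SS A u ⊓ SS A s ⊓ QO u) ≤ SS A s := by
  obtain ⟨c, hc, c1, c2⟩ := k.exists_sep h hu bu hs bs n
  have a1 := half (X := QO u ⊓ QO s) (Y := 𝐂(A)) fun d hd e he d1 e1 => by
    have f : ∀ d ∈ QO u ⊓ QO s, d ∉ 𝐂(A) → d * c * d⁻¹ = u * c := fun d hd d1 =>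
      (h.cases bu hd.1 c1).resolve_left fun f => d1 (k.memK h hs bs hc c2 hd.2 (Or.inl f))
    refine k.memK h hs bs hc c2 (mul_mem hd.2 he.2) (Or.inl ?_)
    rw [show d * e * c * (d * e)⁻¹ = d * (e * c * e⁻¹) * d⁻¹ by group, f e he e1, conj_mul_conj,
      f d hd d1, conj_eq_iff.2 (QO_comm hd.1), ← mul_assoc, h.sq bu, one_mul]
  have a2 := card_sup_mul_card_inf' (H := QO u ⊓ QO s ⊓ 𝐂(A)) (N := A)
    fun a ha => centralizer_le_normalizer _ fun b hb => (hb.2 a ha).symm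
  have a3 := two_le (X := QO u ⊓ QO s ⊓ 𝐂(A) ⊓ A) (Y := A ⊓ QO u) (fun a ha => ⟨ha.2, ha.1.1.1⟩)
    ⟨hc, c1⟩ fun e => c2 e.1.1.2
  have a4 := card_le_card_of_le (H := QO u ⊓ QO s ⊓ 𝐂(A) ⊔ A) (K := SS A u ⊓ SS A s) (sup_le
    (fun a ha => ⟨W_le ha.1.1 ha.2, W_le ha.1.2 ha.2⟩) (le_inf (le_SS _ _) (le_SS _ _)))
  have a5 := half (X := SS A u ⊓ SS A s) fun a ha b hb => k.SS_half hu bu ha.1 hb.1
  have a6 := (h.lq bu).card_mul_card (W := SS A u ⊓ SS A s ⊓ QO u)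
    ⟨⟨le_SS _ _ hu, le_SS _ _ hu⟩, h.self bu⟩ inf_le_right
  have a7 : SS A u ⊓ SS A s ⊓ QO u ≤ QO u ⊓ 𝐂(SS A u ⊓ SS A s ⊓ QO u) := fun a ha =>
    ⟨ha.2, fun b hb => comm_of_sq (k.MM_sq h hu bu hs bs n) hb.1 ha.1⟩
  have a8 := card_le_card_of_le a7
  rw [h.card_inf bu bs m n] at a1
  rw [k.card_P h hu bu] at a3
  rw [k.card] at a2
  rw [h.card bu] at a6
  have b1 : 2 ^ 14 ≤ Nat.card ↥(QO u ⊓ QO s ⊓ 𝐂(A) ⊔ A) := by nlinarith
  have b2 : Nat.card ↥(SS A u ⊓ SS A s ⊓ QO u) ≤ 2 ^ 13 := by nlinarith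
  refine ⟨by omega, fun a ha => ((eq_of_le_of_card_le a7 ?_).ge ha).1.2⟩
  rw [show Nat.card ↥(SS A u ⊓ SS A s ⊓ QO u) = 2 ^ 13 by omega] at a6 ⊢
  omega

theorem cnt_SS (l1 : SS A u ⊓ SS A s ≤ X) (l2 : X ≤ SS A u) :
    2 * {g | g ∈ X ∧ g * g = 1}.ncard = Nat.card X + 2 ^ 14 := by
  obtain ⟨c, d⟩ := k.MM_card h hu bu hs bs n m
  rw [← c]
  refine cnt_inv (h.ne bu) (h.sq bu) l1 (k.MM_sq h hu bu hs bs n)
    (fun g hg => k.SS_sq h hu bu (l2 hg)) fun g hg e => ?_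
  by_contra f
  push Not at f
  obtain ⟨a, ha, p⟩ := k.exists_SS hu (l2 hg)
  refine e ⟨l2 hg, (mul_mem_cancel_right (le_SS _ _ ha)).1 (d ⟨p, fun b hb => ?_⟩)⟩
  rw [mul_assoc, k.SS_le hb.1.1 a ha, ← mul_assoc, ← mul_assoc, conj_eq_iff.1
    ((k.SS_cases h hu bu (l2 hg) hb.1.1).resolve_right (f b hb.1))]

end MM

theorem exists_adj (hu : u ∈ A) (bu : IsConj z u) : ∃ s ∈ A, IsConj z s ∧ u ≠ s ∧ s ∈ QO u := by
  obtain ⟨y, hy, e⟩ := k.exists_opp h hu bu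
  have := k.half_pp (inf_le_left : A ⊓ QO u ≤ A) hy
  rw [k.card_P h hu bu] at this
  obtain ⟨s, a, b⟩ := k.ex_sing (X := A ⊓ QO u ⊓ k.pp hy) (fun _ m => m.1.1) (by omega)
  exact ⟨s, a.1.1, b, fun c => e ((k.memQ u hu bu y hy).2 (k.bb_comm hy hu ▸ c ▸ a.2.2)), a.1.2⟩

/-- the singular elements `s` with `g ∈ SS A s` -/
def UU (g : G) : Subgroup G := sub1 (fun s => s ∈ A ∧ IsConj z s ∧ g ∈ SS A s ∧ g ∉ A)
  (fun _ a => h.sq a.2.1) fun s t a b n =>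
    have m : t ∈ QO s := by_contra fun m => a.2.2.2 (k.SS_inf h a.1 a.2.1 b.1 b.2.1 m a.2.2.1 b.2.2.1)
    ⟨mul_mem a.1 b.1, h.mul a.2.1 b.2.1 m n, k.SS_mul h a.1 a.2.1 b.1 b.2.1 m n a.2.2.1 b.2.2.1,
      a.2.2.2⟩

theorem mem_UU (n : g ∉ A) (hs : s ∈ A) (bs : IsConj z s) (e : g ∈ SS A s) : s ∈ k.UU h g :=
  Or.inr ⟨hs, bs, e, n⟩

theorem UU_le : k.UU h g ≤ A := fun _ a => a.elim (fun e => e ▸ A.one_mem) fun a => a.1

theorem UU_SS (hs : s ∈ k.UU h g) (n : s ≠ 1) : g ∈ SS A s := (hs.resolve_left n).2.2.1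

theorem UU_sing : Sing z (k.UU h g) := fun s hs s1 =>
  have a := hs.resolve_left s1
  ⟨a.2.1, fun t ht => ht.elim (fun e => e ▸ one_mem _) fun b => by_contra fun m =>
    a.2.2.2 (k.SS_inf h a.1 a.2.1 b.1 b.2.1 m a.2.2.1 b.2.2.1)⟩

omit h in
theorem card_sing (n : Sing z T) (l : T ≤ A) : Nat.card T ≤ 32 := by
  have := k.card_Lc n l
  have := card_le_card_of_le (le_inf l n.le)
  nlinarith

theorem UU_norm {r : G} (hr : r ∈ 𝐍(A)) (e : r * g = g * r) : r ∈ 𝐍(k.UU h g) :=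
  mem_normalizer_of_conj_mem fun s hs => hs.imp (fun e => by simp [e]) fun a =>
    ⟨conj_mem_of_mem_normalizer hr a.1, (isConj_conj r).2 a.2.1,
      conj_eq_iff.2 e ▸ conj_SS hr a.2.2.1, a.2.2.2⟩

theorem ncard_UU (n : g ∉ A) :
    {s | s ∈ {u | u ∈ A ∧ IsConj z u} ∧ g ∈ SS A s}.ncard + 1 = Nat.card (k.UU h g) := by
  rw [← ncard_coe, ← Set.ncard_singleton (1 : G)]
  exact (ncard_split fun s => ⟨⟨fun a => a.symm.imp (fun a => ⟨⟨a.1, a.2.1⟩, a.2.2.1⟩) id,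
    fun a => a.elim (fun a => k.mem_UU h n a.1.1 a.1.2 a.2) Or.inl⟩, fun a => h.ne a.1.2⟩).symm

theorem card_UU (c : g ∈ 𝐂(A)) (n : g ∉ A) (gg : g * g = 1) : Nat.card (k.UU h g) = 32 := by
  have cnt : ∀ u ∈ {u | u ∈ A ∧ IsConj z u}, {g | g ∈ SS A u ∧ g * g = 1}.ncard = 139264 :=
    fun u hu => by
      obtain ⟨s, a, b, c, d⟩ := k.exists_adj h hu.1 hu.2
      have := k.cnt_SS h hu.1 hu.2 a b c d inf_le_left le_rfl
      rw [k.card_SS h hu.1 hu.2] at this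
      omega
  have d1 := (dc {u | u ∈ A ∧ IsConj z u} {g | g ∈ 𝐂(A) ∧ g * g ≠ 1}
    (fun u g => g ∈ SS A u ∧ g * g = u) (m := 122880) (n := 1) (fun u hu => by
      have := ncard_split (s := SS A u) (t := {g | g ∈ SS A u ∧ g * g = 1})
        (u := {b | b ∈ {g | g ∈ 𝐂(A) ∧ g * g ≠ 1} ∧ b ∈ SS A u ∧ b * b = u}) fun g =>
          ⟨⟨fun a => (k.SS_sq h hu.1 hu.2 a).imp (fun e => ⟨a, e⟩) fun e =>
            ⟨⟨k.SS_le a, fun f => h.ne hu.2 (e.symm.trans f)⟩, a, e⟩, fun a => a.elim And.left fun a => a.2.1⟩,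
            fun a b => b.1.2 a.2⟩
      rw [ncard_coe, k.card_SS h hu.1 hu.2, cnt u hu] at this
      omega)
    fun g _ => (Set.ncard_le_one (Set.toFinite _)).2 fun u a v b => a.2.2.symm.trans b.2.2).1
  have d2 := ncard_split (s := 𝐂(A)) (t := {g | g ∈ 𝐂(A) ∧ g * g = 1})
    (u := {g | g ∈ 𝐂(A) ∧ g * g ≠ 1}) fun g => ⟨⟨fun a => (em _).imp (⟨a, ·⟩) (⟨a, ·⟩),
      fun a => a.elim And.left And.left⟩, fun a b => b.2 a.2⟩
  have d3 := ncard_split (s := {g | g ∈ 𝐂(A) ∧ g * g = 1}) (t := A)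
    (u := {g | g ∈ 𝐂(A) ∧ g ∉ A ∧ g * g = 1}) fun g => ⟨⟨fun a => (em _).imp id (⟨a.1, ·, a.2⟩),
      fun a => a.elim (fun a => ⟨k.le_cen a, k.sq g a⟩) fun a => ⟨a.1, a.2.2⟩⟩, fun a b => b.2.1 a⟩
  rw [ncard_coe] at d2 d3
  rw [k.cardK] at d2
  rw [k.card] at d3
  rw [k.cnt] at d1
  have d4 := (dc {u | u ∈ A ∧ IsConj z u} {g | g ∈ 𝐂(A) ∧ g ∉ A ∧ g * g = 1}
    (fun u g => g ∈ SS A u) (m := 138240) (n := 31) (fun u hu => by
      have := ncard_split (s := {g | g ∈ SS A u ∧ g * g = 1}) (t := A)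
        (u := {b | b ∈ {g | g ∈ 𝐂(A) ∧ g ∉ A ∧ g * g = 1} ∧ b ∈ SS A u}) fun g =>
          ⟨⟨fun a => (em _).imp id fun e => ⟨⟨k.SS_le a.1, e, a.2⟩, a.1⟩, fun a => a.elim
            (fun a => ⟨le_SS _ _ a, k.sq g a⟩) fun a => ⟨a.2, a.1.2.2⟩⟩, fun a b => b.1.2.1 a⟩
      rw [ncard_coe, k.card, cnt u hu] at this
      omega)
    fun g hg => by
      have := k.ncard_UU h hg.2.1
      have := k.card_sing (k.UU_sing h (g := g)) (k.UU_le h)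
      omega).2 (by rw [k.cnt]; omega) g ⟨c, n, gg⟩
  rw [← k.ncard_UU h n, d4]

theorem exists_Lc (l : T ≤ k.UU h g) : ∃ a ∈ A, g * a ∈ Lc T := by
  classical
  have n := (k.UU_sing h).mono l
  have l' := l.trans (k.UU_le h)
  obtain ⟨a, ha, e⟩ := k.exists_fun l' (fun t => if t = 1 ∨ g ∈ QO t then 0 else 1)
    fun s hs t ht => by
      by_cases s1 : s = 1
      · simp [s1]
      by_cases t1 : t = 1
      · simp [t1]
      by_cases st : s = t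
      · rw [st, k.sq t (l' ht), if_pos (Or.inl rfl), CharTwo.add_self_eq_zero]
      have bs := (n s hs s1).1
      have bt := (n t ht t1).1
      have m := (n s hs s1).2 ht
      have b := h.mul bs bt m st
      have e1 : s * (s * t) = t := by rw [← mul_assoc, h.sq bs, one_mul]
      have e2 : t * (s * t) = s := by rw [← QO_comm m, ← mul_assoc, h.sq bt, one_mul]
      have f0 := @h.inf_le _ _ _ _ _ _ bs bt m st g
      have f1 := @h.inf_le _ _ _ _ _ _ bs b ((n s hs s1).2 (mul_mem hs ht)) (by simpa using t1) g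
      have f2 := @h.inf_le _ _ _ _ _ _ bt b ((n t ht t1).2 (mul_mem hs ht)) (by simpa using s1) g
      have f3 := k.lin h (l' hs) bs (l' ht) bt m st (k.UU_SS h (l hs) s1) (k.UU_SS h (l ht) t1)
      rw [e1] at f1
      rw [e2] at f2
      simp only [mem_inf, s1, t1, h.ne b, false_or] at f0 f1 f2 ⊢
      split_ifs <;> first | rfl | tauto
  refine ⟨a, ha, mem_Lc.2 fun t ht t1 => ?_⟩
  have f := e t ht
  by_cases m : g ∈ QO t
  · exact mul_mem m ((k.memQ t (l' ht) (n t ht t1).1 a ha).2 (f.trans (if_pos (Or.inr m))))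
  · exact k.SS_half (l' ht) (n t ht t1).1 (k.UU_SS h (l ht) t1) (le_SS _ _ ha) m
      ((k.notQ (l' ht) (n t ht t1).1 ha).2 (f.trans (if_neg (not_or.2 ⟨t1, m⟩))))

variable (hL : ∀ T, Sing z T → Nat.card T = 16 → Nat.card (Lc T) ≤ 128)
include hL

theorem inter_le (c : g ∈ 𝐂(A)) (gg : g * g = 1) (n : g ∉ A) (m : l ∉ A ⊔ zpowers g) :
    Nat.card ↥(k.UU h g ⊓ k.UU h l) ≤ 8 := by
  by_contra f
  have p := (k.UU_sing h (g := g)).mono (inf_le_left (b := k.UU h l))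
  obtain ⟨T, a1, a2⟩ := exists_sub (pg_of_sq (h.sing_sq p)) (n := 4) (by omega)
  obtain ⟨a, ha, e⟩ := k.exists_Lc h (a1.trans inf_le_left)
  obtain ⟨b, hb, e'⟩ := k.exists_Lc h (a1.trans inf_le_right)
  have b1 := hL T (p.mono a1) a2
  have b2 := k.card_Lc (p.mono a1) (a1.trans (inf_le_left.trans (k.UU_le h)))
  have b3 := two_le (X := A ⊓ Lc T) (Y := (A ⊔ zpowers g) ⊓ Lc T) (inf_le_inf_right _ le_sup_left)
    ⟨mul_mem (mem_sup_right (mem_zpowers g)) (mem_sup_left ha), e⟩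
    fun r => n ((mul_mem_cancel_right ha).1 r.1)
  have b4 := two_le (X := (A ⊔ zpowers g) ⊓ Lc T) inf_le_right e'
    fun r => m ((mul_mem_cancel_right (mem_sup_left hb)).1 r.1)
  rw [a2] at b2
  omega

theorem card_inter (hx : x ∈ A) (bx : IsConj z x) (hg : g ∈ SS A x) (gg : g * g = 1) (n : g ∉ A)
    (hl : l ∈ SS A x) (ll : l * l = 1) (m : l ∉ A ⊔ zpowers g) (c : l * g = g * l) :
    Nat.card ↥(k.UU h g ⊓ k.UU h l) = 8 := by
  have gK := k.SS_le hg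
  have xU := k.mem_UU h n hx bx hg
  have ca : ({(1 : G), x} : Set G).ncard = 2 := Set.ncard_pair (h.ne bx).symm
  have cb : (A ⊔ zpowers g : Subgroup G).carrier.ncard = 2048 :=
    (card_ad (centralizer_le_normalizer _ gK) gg n).trans (by rw [k.card]; rfl)
  have sp : ∀ l ∈ SS A x, l ∉ A ⊔ zpowers g → Nat.card ↥(k.UU h g ⊓ k.UU h l) =
      2 + {t | t ∈ {t | t ∈ k.UU h g ∧ t ≠ 1 ∧ x ≠ t} ∧ l ∈ SS A t}.ncard := fun l hl m => by
    have n' : l ∉ A := fun r => m (mem_sup_left r)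
    rw [← ca]
    refine ncard_split fun t => ⟨⟨fun a => ?_, fun a => a.elim ?_ fun a => ⟨a.1.1, k.mem_UU h n'
      (k.UU_le h a.1.1) (k.UU_sing h t a.1.1 a.1.2.1).1 a.2⟩⟩, ?_⟩
    · exact (em _).imp id fun r => ⟨⟨a.1, fun e => r (Or.inl e), fun e => r (Or.inr e.symm)⟩,
        k.UU_SS h a.2 fun e => r (Or.inl e)⟩
    · rintro (rfl | rfl)
      exacts [one_mem _, ⟨xU, k.mem_UU h n' hx bx hl⟩]
    · rintro (rfl | rfl) a
      exacts [a.1.2.1 rfl, a.1.2.2 rfl]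
  have c30 : {t | t ∈ k.UU h g ∧ t ≠ 1 ∧ x ≠ t}.ncard = 30 := by
    have := ncard_split (s := k.UU h g) (t := {1, x}) (u := {t | t ∈ k.UU h g ∧ t ≠ 1 ∧ x ≠ t})
      fun t => ⟨⟨fun a => (em _).imp id fun r => ⟨a, fun e => r (Or.inl e),
        fun e => r (Or.inr e.symm)⟩, fun a => a.elim (by rintro (rfl | rfl); exacts [one_mem _, xU])
        And.left⟩, by rintro (rfl | rfl) a; exacts [a.2.1 rfl, a.2.2 rfl]⟩
    rw [ncard_coe, k.card_UU h gK n gg, ca] at this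
    omega
  have fa : ∀ t ∈ {t | t ∈ k.UU h g ∧ t ≠ 1 ∧ x ≠ t}, t ∈ A ∧ IsConj z t ∧ t ∈ QO x ∧
      A ⊔ zpowers g ≤ SS A x ⊓ SS A t ∧ SS A x ⊓ SS A t ≤ SS A x ⊓ 𝐂₁(g) := fun t a =>
    have b := (k.UU_sing h t a.1 a.2.1).1
    have d : g ∈ SS A x ⊓ SS A t := ⟨hg, k.UU_SS h a.1 a.2.1⟩
    ⟨k.UU_le h a.1, b, (k.UU_sing h x xU (h.ne bx)).2 a.1, sup_le (le_inf (le_SS _ _) (le_SS _ _))
      (zpowers_le.2 d), fun r hr => ⟨hr.1, mem_c1.2 (comm_of_sq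
        (k.MM_sq h hx bx (k.UU_le h a.1) b a.2.2) hr d)⟩⟩
  have := (dc {t | t ∈ k.UU h g ∧ t ≠ 1 ∧ x ≠ t}
    {l | (l ∈ SS A x ⊓ 𝐂₁(g) ∧ l * l = 1) ∧ l ∉ A ⊔ zpowers g} (fun t l => l ∈ SS A t)
    (m := 14336) (n := 6) (fun t a => by
      obtain ⟨a1, a2, a3, a4, a5⟩ := fa t a
      have := ncard_split (s := (SS A x ⊓ SS A t : Subgroup G)) (t := (A ⊔ zpowers g).carrier)
        (u := {l | l ∈ {l | (l ∈ SS A x ⊓ 𝐂₁(g) ∧ l * l = 1) ∧ l ∉ A ⊔ zpowers g} ∧ l ∈ SS A t})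
        fun l => ⟨⟨fun b => (em _).imp id fun r => ⟨⟨⟨a5 b, k.MM_sq h hx bx a1 a2 a.2.2 l b⟩, r⟩, b.2⟩,
          fun b => b.elim (a4 ·) fun b => mem_inf.2 ⟨b.1.1.1.1, b.2⟩⟩, fun b c => c.1.2 b⟩
      rw [ncard_coe, (k.MM_card h hx bx a1 a2 a.2.2 a3).1, cb] at this
      omega)
    fun l a => by
      have := sp l a.1.1.1 a.2
      have := k.inter_le h hL gK gg n a.2
      omega).2 (by
      obtain ⟨t, a⟩ := Set.nonempty_of_ncard_ne_zero (c30.trans_ne (by decide))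
      obtain ⟨a1, a2, a3, a4, a5⟩ := fa t a
      have b1 := k.cnt_SS h hx bx a1 a2 a.2.2 a3 a5 inf_le_left
      have b2 := ncard_split (s := {l | l ∈ SS A x ⊓ 𝐂₁(g) ∧ l * l = 1})
        (t := (A ⊔ zpowers g).carrier)
        (u := {l | (l ∈ SS A x ⊓ 𝐂₁(g) ∧ l * l = 1) ∧ l ∉ A ⊔ zpowers g}) fun l =>
          ⟨⟨fun b => (em _).imp id fun r => ⟨b, r⟩, fun b => b.elim (fun b => ⟨a5 (a4 b),
            k.MM_sq h hx bx a1 a2 a.2.2 l (a4 b)⟩) And.left⟩, fun b c => c.2 b⟩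
      obtain ⟨w, w1, w2⟩ : ∃ w ∈ SS A x, w ∉ SS A x ⊓ 𝐂₁(g) := by
        by_contra f
        push Not at f
        obtain ⟨a, ha, e⟩ := k.exists_SS hx hg
        refine n ((mul_mem_cancel_right ha).1 ((k.cent_W h hx bx).le ⟨e, fun w hw => ?_⟩).1)
        rw [← mul_assoc, mem_c1.1 (f w (W_le hw.1 hw.2)).2, mul_assoc, mul_assoc, hw.2 a ha]
      have b3 := two_le inf_le_left w1 w2
      rw [k.card_SS h hx bx] at b3
      rw [c30]
      omega) l ⟨⟨⟨hl, mem_c1.2 c⟩, ll⟩, m⟩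
  rw [sp l hl m, this]

end Ark

end CF.Mx
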