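import Cfsg.Agent.Mx.C

/-! Maximal 2-local subgroups of the Monster: singular subgroups of order at least sixteen. -/

set_option autoImplicit false

namespace CF.Mx

open Cfsg Subgroup CF.Loc CF.Even CF.LX

variable {G : Type*} [Group G]

theorem cj_surj (g v : G) : ∃ b, v = g * b * g⁻¹ := ⟨g⁻¹ * v * g, by group⟩

theorem conj_comm {g a b : G} : g * a * g⁻¹ * (g * b * g⁻¹) = g * b * g⁻¹ * (g * a * g⁻¹) ↔
    a * b = b * a := by rw [conj_mul, conj_mul, mul_left_inj, mul_right_inj]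

/-- the intersection of the orthogonal subgroups over `T` -/
def Us (z : G) (T : Subgroup G) : Subgroup G := ⨅ A, ⨅ _ : Ark z A ∧ T ≤ A, A

theorem mem_Us {z a : G} {T : Subgroup G} : a ∈ Us z T ↔ ∀ A, Ark z A → T ≤ A → a ∈ A := by
  simp only [Us, mem_iInf, and_imp]

theorem cj_Us (z g : G) (T : Subgroup G) : cj[g] (Us z T) = Us z (cj[g] T) := by
  ext a
  simp only [mem_cj, mem_Us]
  exact ⟨fun h A k l => by simpa [mem_cj, mul_assoc] using h _ (k.cj g⁻¹) (cj_le_iff.1 l),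
    fun h A k l => mem_cj.1 (h _ (k.cj g) (cj_mono g l))⟩

/-- two orthogonal subgroups meeting in a singular subgroup of order `32` -/
structure Two (z : G) (T : Subgroup G) (p : G) (A B : Subgroup G) : Prop where
  k1 : Ark z A
  k2 : Ark z B
  ne : A ≠ B
  sT : Sing z T
  cT : Nat.card T = 16
  l1 : T ≤ A
  l2 : T ≤ B
  bp : IsConj z p
  p1 : p ∈ A
  p2 : p ∈ B
  pT : p ∉ T

/-- the orthogonal subgroups over a singular subgroup of order `16` -/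
structure Fa (z : G) (T : Subgroup G) (p : G) : Prop where
  cov : ∀ c ∈ Lc T, ∃ A, Ark z A ∧ T ≤ A ∧ p ∈ A ∧ c ∈ A
  two : ∃ A B, Two z T p A B

variable [Finite G] {z p a b c s v x y : G} {A A₀ B T : Subgroup G}

theorem B0.Lc_ad (h : B0 z) (n : Sing z T) (bp : IsConj z p) (m : p ∈ Lc T) :
    Sing z (T ⊔ zpowers p) ∧ Lc T ⊓ QO p ≤ Lc (T ⊔ zpowers p) := by
  have l : T ≤ QO p := fun t ht => (em (t = 1)).elim (fun e => e ▸ one_mem _) fun e =>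
    h.symm (n t ht e).1 bp (mem_Lc.1 m t ht e)
  have k : ∀ t ∈ T ⊔ zpowers p, t ≠ 1 → IsConj z t ∧ Lc T ⊓ QO p ≤ QO t := fun t ht t1 => by
    rcases (mem_ad (centralizer_le_normalizer _ fun t ht => QO_comm (l ht)) (h.sq bp)).1 ht with e | e
    · exact ⟨(n t e t1).1, fun a ha => mem_Lc.1 ha.1 t e t1⟩
    obtain ⟨t, rfl⟩ : ∃ s, t = s * p := ⟨t * p, by rw [mul_assoc, h.sq bp, mul_one]⟩
    rw [mul_assoc, h.sq bp, mul_one] at e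
    by_cases f : t = 1
    · rw [f, one_mul]; exact ⟨bp, inf_le_right⟩
    have g : t ≠ p := fun g => t1 (g ▸ h.sq (g ▸ bp))
    exact ⟨h.mul (n t e f).1 bp (mem_Lc.1 m t e f) g, fun a ha =>
      h.inf_le (n t e f).1 bp (mem_Lc.1 m t e f) g ⟨mem_Lc.1 ha.1 t e f, ha.2⟩⟩
  exact ⟨fun t ht t1 => ⟨(k t ht t1).1, (sup_le (le_inf n.le l) (zpowers_le.2 ⟨m, h.self bp⟩)).trans
    (k t ht t1).2⟩, fun a ha => mem_Lc.2 fun t ht t1 => (k t ht t1).2 ha⟩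

namespace Two
variable (w : Two z T p A B)
include w

omit [Finite G] in
theorem symm : Two z T p B A := ⟨w.k2, w.k1, w.ne.symm, w.sT, w.cT, w.l2, w.l1, w.bp, w.p2, w.p1, w.pT⟩

theorem card_L : Nat.card ↥(A ⊓ Lc T) = 64 := by
  have := w.k1.card_Lc w.sT w.l1
  rw [w.cT] at this
  omega

variable (h : B0 z)
include h

theorem adj (a1 : a ∈ A) (a2 : a ∈ B) (ba : IsConj z a) (b1 : b ∈ A) (b2 : b ∈ B) : b ∈ QO a :=
  by_contra fun n => w.ne (w.k1.can1 h w.k2 a1 a2 ba b1 b2 n)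

theorem inf_L (a1 : a ∈ A) (a2 : a ∈ B) : a ∈ Lc T :=
  mem_Lc.2 fun t ht t1 => w.adj h (w.l1 ht) (w.l2 ht) (w.sT t ht t1).1 a1 a2

omit [Finite G] in
theorem pN : p ∈ 𝐍(T) := centralizer_le_normalizer _ fun _ ht => w.k1.comm (w.l1 ht) w.p1

theorem eq_V : A ⊓ Lc T ⊓ QO p = T ⊔ zpowers p := by
  obtain ⟨a, b⟩ := h.Lc_ad w.sT w.bp (w.inf_L h w.p1 w.p2)
  have l : T ⊔ zpowers p ≤ A := sup_le w.l1 (zpowers_le.2 w.p1)
  have c := w.k1.card_Lc a l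
  have d := card_ad (w.pN h) (h.sq w.bp) w.pT
  rw [w.cT] at d
  rw [d] at c
  refine le_antisymm (fun x hx => (eq_of_le_of_card_le (le_inf l a.le) (by omega)).ge
    ⟨hx.1.1, b ⟨hx.1.2, hx.2⟩⟩) (le_inf (le_inf l (a.le.trans (Lc_anti le_sup_left)))
    (a p (mem_sup_right (mem_zpowers p)) (h.ne w.bp)).2)

theorem inf_eq : A ⊓ B = T ⊔ zpowers p :=
  le_antisymm (fun _ a => (w.eq_V h).le ⟨⟨a.1, w.inf_L h a.1 a.2⟩, w.adj h w.p1 w.p2 w.bp a.1 a.2⟩)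
    (sup_le (le_inf w.l1 w.l2) (zpowers_le.2 ⟨w.p1, w.p2⟩))

theorem card_inf : Nat.card ↥(A ⊓ B) = 32 := by
  rw [w.inf_eq h, card_ad (w.pN h) (h.sq w.bp) w.pT, w.cT]

theorem notQ (c1 : c ∈ A) (c2 : c ∈ Lc T) (n : c ∉ B) : c ∉ QO p := fun m =>
  n (((w.eq_V h).trans (w.inf_eq h).symm).le ⟨⟨c1, c2⟩, m⟩).2

theorem cc : B ≤ 𝐂(A) := fun _ ha =>
  let ⟨_, p, q, r⟩ := w.k2.exists_perp w.sT w.l2 ha (m := 8) w.cT.ge
  w.k1.h8 h (w.sT.mono p) (p.trans w.l1) q r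

theorem le_UU (y1 : y ∈ B) (y2 : y ∈ Lc T) (y3 : y ∉ A) : T ≤ w.k1.UU h y := fun t ht =>
  (em (t = 1)).elim Or.inl fun e => w.k1.mem_UU h y3 (w.l1 ht) (w.sT t ht e).1
    (W_le (mem_Lc.1 y2 t ht e) (w.cc h y1))

theorem mem_SS (x1 : x ∈ A) (x2 : x ∈ Lc T) (x3 : x ∉ B) (bx : IsConj z x) (y1 : y ∈ B)
    (y2 : y ∈ Lc T) (y3 : y ∉ A) : y ∈ SS A x := by
  have xp := w.notQ h x1 x2 x3
  refine w.k1.UU_SS h (by_contra fun n => ?_) (h.ne bx)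
  have := mul_mem_of_card (X := A ⊓ Lc T) (Y := w.k1.UU h y) (le_inf (w.k1.UU_le h)
    ((w.k1.UU_sing h).le.trans (Lc_anti (w.le_UU h y1 y2 y3))))
    (by rw [w.card_L, w.k1.card_UU h (w.cc h y1) y3 (w.k2.sq y y1)])
    ⟨w.p1, w.inf_L h w.p1 w.p2⟩ ⟨x1, x2⟩ (fun m => w.ne (w.k1.can2 h w.k2 w.p1 w.p2 w.bp x1 y1 xp
      (w.k1.SS_half w.p1 w.bp (le_SS _ _ x1) (w.k1.UU_SS h m (h.ne w.bp)) xp
        (w.symm.notQ h y1 y2 y3)))) n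
  exact ((w.k1.opp h w.p1 w.bp x1 xp).resolve_right fun e => e.1 bx).2 (w.k1.UU_sing h _ this
    fun e => xp ((mul_mem_cancel_left (h.self w.bp)).1 (e ▸ one_mem _))).1

end Two

namespace Mo
variable (m : Mo z A₀)
include m

omit [Finite G] in
theorem gd' (bx : IsConj z x) (vv : v * v = 1) (c : v * x = x * v) (n : v ∉ QO x) :
    (∃ s ∈ QO x, IsConj z s ∧ s ≠ x ∧ v ∈ QO s) ∧ (IsConj z v ∨ IsConj z (x * v)) := by
  obtain ⟨g, rfl⟩ := isConj_iff.1 bx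
  obtain ⟨v, rfl⟩ := cj_surj g v
  obtain ⟨⟨s, a, b, d, e⟩, f⟩ := m.gd v (by simpa using vv) (conj_comm.1 c) (mt conj_mem_QO.2 n)
  exact ⟨⟨_, conj_mem_QO.2 a, (isConj_conj g).2 b, by simpa using d, conj_mem_QO.2 e⟩,
    by rwa [conj_mul, isConj_conj, isConj_conj]⟩

omit [Finite G] in
theorem tri' (bx : IsConj z x) (s1 : s ∈ QO x) (bs : IsConj z s) (s2 : s ≠ x) (v1 : v ∈ QO s)
    (c : v * x = x * v) (n : v ∉ QO x) :
    (∃ g, x ∈ cj[g] A₀ ∧ ∃ y ∈ cj[g] A₀, y ∉ QO x ∧ v * y ∈ QO x) ∨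
      ∀ q ∈ QO x, q * q = 1 → q * v = v * q → q ∈ QO s := by
  obtain ⟨g, rfl⟩ := isConj_iff.1 bx
  obtain ⟨v, rfl⟩ := cj_surj g v
  obtain ⟨s, rfl⟩ := cj_surj g s
  refine (m.tri s (conj_mem_QO.1 s1) ((isConj_conj g).1 bs) (by simpa using s2) v
    (conj_mem_QO.1 v1) (conj_comm.1 c) (mt conj_mem_QO.2 n)).imp (fun ⟨r, a, y, b, d, e⟩ =>
      ⟨g * r, cj_mul g r A₀ ▸ conj_mem_cj g a, _, cj_mul g r A₀ ▸ conj_mem_cj g b,
        mt conj_mem_QO.1 d, by rw [conj_mul]; exact conj_mem_QO.2 e⟩) fun f q a b d => ?_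
  obtain ⟨q, rfl⟩ := cj_surj g q
  exact conj_mem_QO.2 (f q (conj_mem_QO.1 a) (by simpa using b) (conj_comm.1 d))

theorem arkc (k : Ark z A) : ∃ g, A = cj[g] A₀ := by
  have h := m.b0
  obtain ⟨x, x1, bx⟩ := k.ex_sing le_rfl (by rw [k.card]; norm_num)
  obtain ⟨s, s1, bs, n, s2⟩ := k.exists_adj h x1 bx
  obtain ⟨y, y1, y2, y3⟩ := k.exists_sep h s1 bs x1 bx n.symm
  obtain ⟨c, c1, c2, c3⟩ := k.exists_sep h x1 bx s1 bs n
  obtain ⟨g, a, v, b, -, e⟩ := (m.tri' bx s2 bs n.symm y2 (k.comm y1 x1) y3).resolve_right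
    fun f => c3 (f c c2 (k.sq c c1) (k.comm c1 y1))
  exact ⟨g, k.can2 h (m.ark.cj g) x1 a bx y1 b y3 e⟩

omit [Finite G] in
theorem hL (T : Subgroup G) (n : Sing z T) (c : Nat.card T = 16) : Nat.card (Lc T) ≤ 128 := by
  obtain ⟨T₀, p, a, b, d, -⟩ := m.fano
  obtain ⟨g, rfl⟩ := m.s16 T₀ T a n b c
  rwa [← cj_Lc, card_cj]

theorem fa (n : Sing z T) (c : Nat.card T = 16) : ∃ p, Fa z T p := by
  have h := m.b0
  obtain ⟨p, A, w⟩ : ∃ (p : G) (A : Fin 3 → Subgroup G), ∀ i j, i ≠ j → Two z T p (A i) (A j) := by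
    obtain ⟨T₀, p, a, b, -, d, e, -, A, f, k⟩ := m.fano
    obtain ⟨g, rfl⟩ := m.s16 T₀ T a n b c
    exact ⟨_, fun i => cj[g] (A i), fun i j ij => ⟨(k i).1.cj g, (k j).1.cj g,
      fun r => ij (f (cj_inj.1 r)), n, c, cj_mono g (k i).2.1, cj_mono g (k j).2.1,
      (isConj_conj g).2 d, conj_mem_cj g (k i).2.2, conj_mem_cj g (k j).2.2,
      mt conj_mem_cj_iff.1 e⟩⟩
  have w0 := w 0 1 (by decide)
  have w1 := w 1 2 (by decide)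
  have w2 := w 2 0 (by decide)
  refine ⟨p, fun c hc => ?_, _, _, w0⟩
  by_cases c0 : c ∈ A 0
  · exact ⟨_, w0.k1, w0.l1, w0.p1, c0⟩
  by_cases c1 : c ∈ A 1
  · exact ⟨_, w0.k2, w0.l2, w0.p2, c1⟩
  obtain ⟨b, b1, b2⟩ := exists_not_mem (X := A 2 ⊓ Lc T) (Y := A 2 ⊓ A 0)
    (by rw [w2.card_L, w2.card_inf h]; norm_num)
  have e : ∀ {B}, Two z T p B (A 2) → c ∉ B → b ∉ B → c * b ∈ B := fun w a a' =>
    (mul_mem_of_card (X := Lc T) inf_le_right (by rw [w.card_L]; exact m.hL T n w.cT) hc b1.2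
      (fun r => a r.1) fun r => a' r.1).1
  exact ⟨_, w2.k1, w2.l1, w2.p1, ((A 2).mul_mem_cancel_right b1.1).1 (((w0.inf_eq h).trans
    (w2.inf_eq h).symm).le ⟨e w2.symm c0 fun r => b2 ⟨b1.1, r⟩, e w1 c1 fun r =>
      b2 (((w1.inf_eq h).trans (w2.inf_eq h).symm).le ⟨r, b1.1⟩)⟩).1⟩

variable (f : Fa z T p) (w : Two z T p A B)
include f w

theorem prod (x1 : x ∈ A) (x2 : x ∈ Lc T) (x3 : x ∉ B) (bx : IsConj z x) (y1 : y ∈ B)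
    (y2 : y ∈ Lc T) (y3 : y ∉ A) (b : IsConj z y) :
    y ∉ QO x ∧ IsConj z (x * y) ∧ ¬ IsConj z (p * (x * y)) := by
  have h := m.b0
  obtain ⟨C, k, l, p3, c⟩ := f.cov _ (mul_mem x2 y2)
  have n : x * y ∉ A := by rwa [mul_mem_cancel_left x1]
  have o := k.opp h p3 w.bp c (Two.notQ ⟨k, w.k1, fun e => n (e ▸ c), w.sT, w.cT, l, w.l1, w.bp, p3,
    w.p1, w.pT⟩ h c (mul_mem x2 y2) n)
  have px : p ∉ QO x := mt (h.symm bx w.bp) (w.notQ h x1 x2 x3)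
  have o' := ((w.k2.opp h w.p2 w.bp y1 (w.symm.notQ h y1 y2 y3)).resolve_right fun e => e.1 b).2
  have py := mul_mem w.p2 y1
  rw [← mul_assoc, w.k1.comm w.p1 x1, mul_assoc] at o ⊢
  have a : y ∉ QO x := fun r => o.elim (fun e => e.2 ((m.gd' bx (w.k2.sq _ py) (w.cc h py x x1).symm
    (by rwa [mul_mem_cancel_right r])).2.resolve_left o'))
    fun e => e.1 (h.mul bx b r fun e => y3 (e ▸ x1))
  exact ⟨a, o.resolve_right fun e => o' (e.2.trans (h.conj_mul bx (w.k1.SS_half x1 bx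
    (le_SS _ _ w.p1) (w.mem_SS h x1 x2 x3 bx y1 y2 y3) px a)
    (fun r => y3 ((mul_mem_cancel_left w.p1).1 (r ▸ one_mem _))) fun r => x3 (r ▸ py)).symm)⟩

theorem bb0 (x1 : x ∈ A) (x2 : x ∈ Lc T) (x3 : x ∉ B) (y1 : y ∈ B) (y2 : y ∈ Lc T) (y3 : y ∉ A) :
    bb z x y = 0 := by
  have h := m.b0
  have pL := w.inf_L h w.p1 w.p2
  have pp := h.sq w.bp
  have e1 : x * (p * y) = p * (x * y) := by rw [← mul_assoc, w.k1.comm x1 w.p1, mul_assoc]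
  have n0 : x ≠ 1 := fun e => x3 (e ▸ one_mem _)
  have n1 : y ≠ 1 := fun e => y3 (e ▸ one_mem _)
  have n2 : x * y ≠ 1 := fun e => y3 ((mul_mem_cancel_left x1).1 (e ▸ one_mem _))
  have x4 : p * x ∉ B := by rwa [mul_mem_cancel_left w.p2]
  have y4 : p * y ∉ A := by rwa [mul_mem_cancel_left w.p1]
  rw [bb]
  rcases w.k1.opp h w.p1 w.bp x1 (w.notQ h x1 x2 x3) with a | a <;>
    rcases w.k2.opp h w.p2 w.bp y1 (w.symm.notQ h y1 y2 y3) with b | b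
  · rw [qq_of a.1, qq_of b.1, qq_of (m.prod f w x1 x2 x3 a.1 y1 y2 y3 b.1).2.1]; rfl
  · have := (m.prod f w x1 x2 x3 a.1 (mul_mem w.p2 y1) (mul_mem pL y2) y4 b.2).2.2
    rw [e1, ← mul_assoc, pp, one_mul] at this
    rw [qq_of a.1, qq_eq_one.2 ⟨n1, b.1⟩, qq_eq_one.2 ⟨n2, this⟩]; rfl
  · have := (m.prod f w (mul_mem w.p1 x1) (mul_mem pL x2) x4 a.2 y1 y2 y3 b.1).2.2
    rw [mul_assoc, ← mul_assoc, pp, one_mul] at this
    rw [qq_of b.1, qq_eq_one.2 ⟨n0, a.1⟩, qq_eq_one.2 ⟨n2, this⟩]; rfl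
  · have := (m.prod f w (mul_mem w.p1 x1) (mul_mem pL x2) x4 a.2 (mul_mem w.p2 y1) (mul_mem pL y2)
      y4 b.2).2.1
    rw [mul_assoc, e1, ← mul_assoc, pp, one_mul] at this
    rw [qq_of this, qq_eq_one.2 ⟨n0, a.1⟩, qq_eq_one.2 ⟨n1, b.1⟩]; rfl

omit w in
theorem mem (k : Ark z A) (l : T ≤ A) : p ∈ A := by
  have h := m.b0
  obtain ⟨B, C, w⟩ := f.two
  by_contra n
  have c := k.card_Lc w.sT l
  rw [w.cT] at c
  refine absurd (k.iso (T := A ⊓ Lc T) inf_le_left fun x hx y hy => ?_) (by omega)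
  have z0 : ∀ {D E a b}, Two z T p D E → a ∈ A → a ∈ D ⊓ E → b ∈ A ⊓ Lc T → bb z a b = 0 := by
    intro D E a b w ha e hb
    rcases (mem_ad (w.pN h) (h.sq w.bp)).1 ((w.inf_eq h).le e) with e | e
    · exact ((k.mem_perp l).1 ((k.perp_eq w.sT l).ge hb)).2 a e
    · exact absurd ((mul_mem_cancel_left ha).1 (l e)) n
  have z1 : ∀ D, Ark z D → T ≤ D → p ∈ D → x ∈ D → y ∈ D → bb z x y = 0 := fun D k' l' p' x' y' => by
    obtain ⟨E, w⟩ : ∃ E, Two z T p D E := by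
      by_cases e : D = B
      exacts [⟨C, e ▸ w⟩, ⟨B, k', w.k1, e, w.sT, w.cT, l', w.l1, w.bp, p', w.p1, w.pT⟩]
    by_cases a : x ∈ E
    · exact z0 w hx.1 ⟨x', a⟩ hy
    by_cases b : y ∈ E
    · exact k.bb_comm hx.1 hy.1 ▸ z0 w hy.1 ⟨y', b⟩ hx
    have := z0 w (mul_mem hx.1 hy.1) (mul_mem_of_card (X := D ⊓ Lc T) (Y := D ⊓ E)
      (fun _ r => ⟨r.1, w.inf_L h r.1 r.2⟩) (by rw [w.card_L, w.card_inf h]) ⟨x', hx.2⟩ ⟨y', hy.2⟩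
      (fun r => a r.2) fun r => b r.2) hy
    rwa [k.add' hx.1 hy.1 hy.1, k.bb_self hy.1, add_zero] at this
  obtain ⟨D, k1, l1, p1, x1⟩ := f.cov x hx.2
  obtain ⟨E, k2, l2, p2, y1⟩ := f.cov y hy.2
  by_cases a : y ∈ D
  · exact z1 D k1 l1 p1 x1 a
  by_cases b : x ∈ E
  · exact z1 E k2 l2 p2 b y1
  exact m.bb0 f ⟨k1, k2, fun e => a (e ▸ y1), w.sT, w.cT, l1, l2, w.bp, p1, p2, w.pT⟩ x1 hx.2 b y1
    hy.2 a

omit w in
theorem tw (k : Ark z A) (l : T ≤ A) (k' : Ark z B) (l' : T ≤ B) (n : A ≠ B) : Two z T p A B :=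
  let ⟨_, _, w⟩ := f.two
  ⟨k, k', n, w.sT, w.cT, l, l', w.bp, m.mem f k l, m.mem f k' l', w.pT⟩

omit f w in
theorem sing_cls (n : Sing z T) (c : 8 < Nat.card T) :
    (∃ T₀, Sing z T₀ ∧ Nat.card T₀ = 16 ∧ 𝐍(T) ≤ 𝐍(Us z T₀)) ∨ ∃ A, Ark z A ∧ 𝐍(T) ≤ 𝐍(A) := by
  have h := m.b0
  obtain ⟨T₀, l, c₀⟩ := exists_sub (pg_of_sq (h.sing_sq n)) (n := 4) (by omega)
  have n₀ := n.mono l
  obtain ⟨p, f⟩ := m.fa n₀ c₀
  have L : T ≤ Lc T₀ := n.le.trans (Lc_anti l)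
  by_cases e : T ≤ Us z T₀
  · refine Or.inl ⟨T₀, n₀, c₀, ?_⟩
    by_cases e' : T ≤ T₀
    · exact fun g hg => by rw [← cj_eq_self_iff, cj_Us, ← le_antisymm e' l, cj_eq_self hg]
    obtain ⟨a, a1, a2⟩ := SetLike.not_le_iff_exists.1 e'
    obtain ⟨A, B, w⟩ := f.two
    have := two_le l a1 a2
    have := card_le_card_of_le (H := Us z T₀) (K := A ⊓ B) fun a r =>
      ⟨mem_Us.1 r _ w.k1 w.l1, mem_Us.1 r _ w.k2 w.l2⟩
    rw [w.card_inf h] at this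
    rw [← eq_of_le_of_card_le e (by omega)]
  obtain ⟨c, c1, c2⟩ := SetLike.not_le_iff_exists.1 e
  obtain ⟨B, k', l', c3⟩ : ∃ B, Ark z B ∧ T₀ ≤ B ∧ c ∉ B := by simpa only [mem_Us, not_forall,
    exists_prop] using c2
  obtain ⟨A, k, l1, p1, c4⟩ := f.cov c (L c1)
  have w := m.tw f k l1 k' l' fun e => c3 (e ▸ c4)
  have c5 : c ≠ 1 := fun e => c3 (e ▸ one_mem _)
  have TA : T ≤ A := fun d hd => by_contra fun d1 => by
    obtain ⟨C, k2, l2, -, d2⟩ := f.cov d (L hd)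
    have w' := m.tw f k l1 k2 l2 fun e => d1 (e ▸ d2)
    exact (m.prod f w' c4 (L c1) (fun r => c3 (((w'.inf_eq h).trans (w.inf_eq h).symm).le ⟨c4, r⟩).2)
      (n c c1 c5).1 d2 (L hd) d1 (n d hd fun e => d1 (e ▸ one_mem _)).1).1 ((n c c1 c5).2 hd)
  refine Or.inr ⟨A, k, fun g hg => ?_⟩
  have TA' : T ≤ cj[g] A := cj_eq_self hg ▸ cj_mono g TA
  exact cj_eq_self_iff.1 ((k.cj g).can1 h k (m.mem f (k.cj g) (l.trans TA')) p1 w.bp (TA' c1) c4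
    (w.notQ h c4 (L c1) c3))

end Mo

end CF.Mx
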