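import Cfsg.Agent.Mx.D

/-! Maximal 2-local subgroups of the Monster: commuting non-adjacent pairs, first cases. -/

set_option autoImplicit false

namespace CF.Mx

open Cfsg Subgroup CF.Loc CF.Even CF.LX

variable {G : Type*} [Group G]

/-- `E = Ω₁ Z(R)` for `R = O₂(N(E))` -/
structure Sk (z : G) (E R : Subgroup G) : Prop where
  pR : IsPGroup 2 R
  sq : ∀ e ∈ E, e * e = 1
  cen : R ≤ 𝐂(E)
  pr : ∀ x ∈ E, IsConj z x → ∀ s ∈ QO x, s * s = 1 → s ∈ 𝐂(R) → s ∈ E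

/-- the conjugates of `z` in `E` with the most neighbours in `E` -/
structure Mx (z : G) (E : Subgroup G) (x : G) : Prop where
  mem : x ∈ E
  b : IsConj z x
  le : ∀ s ∈ E, IsConj z s → Nat.card ↥(E ⊓ QO s) ≤ Nat.card ↥(E ⊓ QO x)

variable [Finite G] {z a b e g s t v x y : G} {A A₀ E R T : Subgroup G}

omit [Finite G] in
theorem Sk.cm (S : Sk z E R) {r : G} (hr : r ∈ R) (he : e ∈ E) : r * e = e * r :=
  (S.cen hr e he).symm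

omit [Finite G] in
theorem Sk.comm (S : Sk z E R) (ha : a ∈ E) (hb : b ∈ E) : a * b = b * a := comm_of_sq S.sq ha hb

omit [Finite G] in
theorem mul_ne {s t : G} (h : t * t = 1) (n : s ≠ t) : s * t ≠ 1 := fun e =>
  n (mul_right_cancel (e.trans h.symm))

theorem Ark.SS_split (k : Ark z A) (h : B0 z) (hx : x ∈ A) (bx : IsConj z x) (hy : y ∈ A)
    (b : IsConj z y) (n : y ∉ QO x) (hs : s ∈ A) (bs : IsConj z s) (s1 : s ∈ QO x) (s2 : s ∈ QO y)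
    (e1 : e ∈ SS A x) (e2 : g ∈ SS A y) (m : e * g ∈ SS A s) : e ∈ SS A s := by
  have nn : SS A s ⊓ SS A y ≤ 𝐍(SS A s ⊓ SS A x) :=
    (inf_le_left.trans k.SS_le).trans (le_normalizer_inf (k.K_norm hs) (k.K_norm hx))
  have a1 := card_sup_mul_card_inf' nn
  have a2 := card_le_card_of_le (H := SS A s ⊓ SS A x ⊓ (SS A s ⊓ SS A y)) (K := A)
    fun _ r => k.SS_inf h hx bx hy b n r.1.2 r.2.2
  rw [(k.MM_card h hs bs hx bx (fun r => n (h.symm b bx (r ▸ s2))) (h.symm bx bs s1)).1,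
    (k.MM_card h hs bs hy b (fun r => n (r ▸ s1)) (h.symm b bs s2)).1] at a1
  rw [k.card] at a2
  obtain ⟨c, hc, d, hd, f⟩ := (mem_sup_of_le_normalizer nn).1 ((eq_of_le_of_card_le
    (sup_le inf_le_left inf_le_left) (by rw [k.card_SS h hs bs]; nlinarith)).ge m)
  exact ((SS A s).mul_mem_cancel_left ((SS A s).inv_mem hc.1)).1 (le_SS _ _ (k.SS_inf h hx bx hy b n
    (mul_mem (inv_mem hc.2) e1) (by
      rw [show c⁻¹ * e = d * g⁻¹ by rw [eq_mul_inv_iff_mul_eq, mul_assoc, ← f, inv_mul_cancel_left]]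
      exact mul_mem hd.2 (inv_mem e2))))

theorem Ark.half_UU (k : Ark z A) (h : B0 z) {X : Subgroup G} (l : X ≤ A) (hx : x ∈ A)
    (bx : IsConj z x) : Nat.card X ≤ 2 * Nat.card ↥(X ⊓ QO x) :=
  half fun _ a _ b => k.halfA hx bx (l a) (l b)

namespace Mo
variable (m : Mo z A₀) (S : Sk z E R)
include m

theorem tri2 (bx : IsConj z x) (vv : v * v = 1) (c : v * x = x * v) (n : v ∉ QO x)
    (hR : IsPGroup 2 R) (r1 : ∀ r ∈ R, r * x = x * r) (r2 : ∀ r ∈ R, r * v = v * r) :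
    (∃ A, Ark z A ∧ x ∈ A ∧ v ∈ SS A x) ∨ ∃ s ∈ QO x, IsConj z s ∧ v ∈ QO s ∧ s ∈ 𝐂(R) ∧
      ∀ q ∈ QO x, q * q = 1 → q * v = v * q → q ∈ QO s := by
  have h := m.b0
  refine or_iff_not_imp_left.2 fun H => ?_
  have D : ∀ s, s ∈ QO x ∧ IsConj z s ∧ v ∈ QO s →
      ∀ q ∈ QO x, q * q = 1 → q * v = v * q → q ∈ QO s := fun s a =>
    (m.tri' bx a.1 a.2.1 (fun e => n (e ▸ a.2.2)) a.2.2 c n).resolve_left
      fun ⟨g, p, y, q, r, u⟩ => H ⟨_, m.ark.cj g, p, (m.ark.cj g).mem_SS_of h p bx q r u vv⟩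
  obtain ⟨⟨s, s1, s2, -, s3⟩, -⟩ := m.gd' bx vv c n
  obtain ⟨t, a, b⟩ := exists_fix hR (fun s => s ∈ QO x ∧ IsConj z s ∧ v ∈ QO s)
    (fun s a => h.sq a.2.1) (fun s t a b n =>
      have d := D s a t b.1 (h.sq b.2.1) (QO_comm b.2.2).symm
      ⟨mul_mem a.1 b.1, h.mul a.2.1 b.2.1 d n, h.inf_le a.2.1 b.2.1 d n ⟨a.2.2, b.2.2⟩⟩)
    (fun r hr s a => ⟨conj_QO (r1 r hr) a.1, (isConj_conj r).2 a.2.1,
      conj_eq_iff.2 (r2 r hr) ▸ conj_mem_QO.2 a.2.2⟩) ⟨s1, s2, s3⟩ (h.ne s2)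
  exact ⟨t, a.1, a.2.1, a.2.2, b, D t a⟩

include S

theorem lower (k : Ark z A) (hx : x ∈ A) (bx : IsConj z x) (hy : y ∈ E) (y1 : y ∈ SS A x)
    (n : y ∉ QO x) : 2 * Nat.card ↥(E ⊓ QO x) ≤ Nat.card ↥(E ⊓ SS A x) :=
  two_le (fun _ a => ⟨a.1, W_le a.2 (k.memK2 m.b0 hx bx y1 n a.2 (S.comm a.1 hy))⟩) ⟨hy, y1⟩
    fun a => n a.2

omit m S in
theorem upper (k : Ark z A) (X : Mx z E x) (hs : s ∈ A) (bs : IsConj z s) (s1 : s ∈ E) :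
    Nat.card ↥(E ⊓ SS A s) ≤ 2 * Nat.card ↥(E ⊓ QO x) :=
  (half (X := E ⊓ SS A s) fun _ a _ b => k.SS_half hs bs a.2 b.2).trans (Nat.mul_le_mul_left _
    ((card_le_card_of_le (inf_le_inf_right _ inf_le_left)).trans (X.le s s1 bs)))

variable (k : Ark z A) (X : Mx z E x) (Y : Mx z E y) (hx : x ∈ A) (hy : y ∈ A) (n : y ∉ QO x)
include k X Y hx hy n

theorem caseA1 : E ⊓ 𝐂(A) ≤ A := fun e he => by_contra fun e1 => by
  have h := m.b0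
  have n' : x ∉ QO y := mt (h.symm Y.b X.b) n
  have RN : R ≤ 𝐍(A) := fun r hr =>
    k.norm_of h hx X.b (le_SS _ _ hy) n (S.cm hr X.mem) (S.cm hr Y.mem)
  have fx : ∀ {e X₀ s}, e ∈ E → X₀ ≤ E → s ∈ k.UU h e → s ≠ 1 → s ∈ QO x → X₀ ≤ SS A s →
      ∃ s ∈ E, s ∈ A ∧ IsConj z s ∧ e ∈ SS A s ∧ X₀ ≤ SS A s := by
    intro e X₀ s he l s1 s2 s3 s4
    have u := k.UU_sing h (g := e)
    obtain ⟨t, a, b⟩ := exists_fix S.pR (fun s => s ∈ k.UU h e ∧ s ≠ 1 ∧ s ∈ QO x ∧ X₀ ≤ SS A s)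
      (fun s a => h.sing_sq u s a.1) (fun s t a b n => ⟨mul_mem a.1 b.1,
        mul_ne (h.sing_sq u t b.1) n, mul_mem a.2.2.1 b.2.2.1, fun g hg =>
        k.SS_mul h (k.UU_le h a.1) (u s a.1 a.2.1).1 (k.UU_le h b.1) (u t b.1 b.2.1).1
          ((u s a.1 a.2.1).2 b.1) n (a.2.2.2 hg) (b.2.2.2 hg)⟩)
      (fun r hr s a => ⟨conj_mem_of_mem_normalizer (k.UU_norm h (RN hr) (S.cm hr he)) a.1,
        by simpa using a.2.1, conj_QO (S.cm hr X.mem) a.2.2.1, fun g hg =>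
        conj_eq_iff.2 (S.cm hr (l hg)) ▸ conj_SS (RN hr) (a.2.2.2 hg)⟩) ⟨s1, s2, s3, s4⟩ s2
    exact ⟨t, S.pr x X.mem X.b t a.2.2.1 (h.sing_sq u t a.1) b, k.UU_le h a.1, (u t a.1 a.2.1).1,
      k.UU_SS h a.1 a.2.1, a.2.2.2⟩
  have a1 := k.half_UU h (k.UU_le h (g := e)) hx X.b
  rw [k.card_UU h he.2 e1 (S.sq e he.1)] at a1
  obtain ⟨s, s1, s2⟩ := exists_not_mem (X := k.UU h e ⊓ QO x) (Y := ⊥) (by rw [card_bot]; omega)
  obtain ⟨s, t1, t2, t3, t4, -⟩ := fx he.1 bot_le s1.1 s2 s1.2 bot_le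
  have a2 := two_le (X := E ⊓ A) (inf_le_inf_left E (le_SS A s)) ⟨he.1, t4⟩ fun r => e1 r.2
  have a3 := upper k X t2 t3 t1
  have a4 := upper k X hx X.b X.mem
  have a5 := upper k X hy Y.b Y.mem
  have a6 := m.lower S k hx X.b Y.mem (le_SS _ _ hy) n
  have a7 := m.lower S k hy Y.b X.mem (le_SS _ _ hx) n'
  have a8 := Y.le x X.mem X.b
  have a9 : 0 < Nat.card ↥(E ⊓ A) := Nat.card_pos
  obtain ⟨f, f1, f2⟩ := exists_not_mem (X := E ⊓ SS A y) (Y := E ⊓ A) (by omega)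
  obtain ⟨e, e2, e3⟩ := exists_not_mem (X := E ⊓ SS A x) (Y := E ⊓ A) (by omega)
  have f3 : f ∉ A := fun r => f2 ⟨f1.1, r⟩
  -- the rank bound
  have sJ := sq_sup (X := E ⊓ 𝐂(A)) (fun a r => S.sq a r.1) k.sq fun a r b q => (q.2 a r).symm
  have lJ : ∀ u, E ⊓ SS A u ⊔ A ≤ E ⊓ 𝐂(A) ⊔ A := fun u =>
    sup_le_sup_right (inf_le_inf_left _ k.SS_le) _
  have cJ : ∀ u, Nat.card ↥(E ⊓ SS A u ⊔ A) * Nat.card ↥(E ⊓ A) =
      Nat.card ↥(E ⊓ SS A u) * Nat.card A := fun u => by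
    rw [← card_sup_mul_card_inf (H := E ⊓ SS A u)
      fun a r => centralizer_le_normalizer _ (k.SS_le r.2), inf_assoc, inf_eq_right.2 (le_SS _ _)]
  have b1 : Nat.card ↥(E ⊓ SS A x ⊔ A) = Nat.card ↥(E ⊓ SS A y ⊔ A) :=
    Nat.eq_of_mul_eq_mul_right a9 (by rw [cJ, cJ]; congr 1; omega)
  have b2 := card_sup_mul_card_inf (H := E ⊓ SS A x ⊔ A) (N := E ⊓ SS A y ⊔ A) fun a r =>
    centralizer_le_normalizer _ fun b q => comm_of_sq sJ (lJ _ q) (lJ _ r)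
  have b3 := m.rk _ fun a (r : a ∈ (E ⊓ SS A x ⊔ A) ⊔ (E ⊓ SS A y ⊔ A)) =>
    sJ a (sup_le (lJ _) (lJ _) r)
  have b4 := card_le_card_of_le (H := (E ⊓ SS A x ⊔ A) ⊓ (E ⊓ SS A y ⊔ A)) (K := A) fun a r =>
    k.SS_inf h hx X.b hy Y.b n (sup_le inf_le_right (le_SS _ _) r.1)
      (sup_le inf_le_right (le_SS _ _) r.2)
  rw [k.card] at b4
  have b5 : Nat.card ↥(E ⊓ SS A x ⊔ A) < 8192 := by rw [← b1] at b2; nlinarith
  obtain ⟨e', e4, e5, e6⟩ : ∃ e' ∈ E ⊓ SS A x, e' ∉ A ∧ E ⊓ SS A x ≤ A ⊔ zpowers e ⊔ zpowers e' := by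
    by_cases c : E ⊓ SS A x ≤ A ⊔ zpowers e
    · exact ⟨e, e2, fun r => e3 ⟨e2.1, r⟩, c.trans le_sup_left⟩
    obtain ⟨e', c1, c2⟩ := SetLike.not_le_iff_exists.1 c
    refine ⟨e', c1, fun r => c2 (mem_sup_left r), fun g hg => by_contra fun c3 => ?_⟩
    have d1 := two_le (le_sup_left : A ≤ A ⊔ zpowers e) (mem_sup_right (mem_zpowers e))
      fun r => e3 ⟨e2.1, r⟩
    have d2 := two_le (le_sup_left : _ ≤ A ⊔ zpowers e ⊔ zpowers e') (mem_sup_right (mem_zpowers _)) c2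
    have d3 := two_le (Y := E ⊓ SS A x ⊔ A) (sup_le (sup_le le_sup_right (zpowers_le.2
      (mem_sup_left e2))) (zpowers_le.2 (mem_sup_left c1))) (mem_sup_left hg) c3
    rw [k.card] at d1
    omega
  have Z : ∀ e ∈ E ⊓ SS A x, e ∉ A → 8 ≤ Nat.card ↥(k.UU h (e * f) ⊓ QO x ⊓ QO y) ∧
      k.UU h (e * f) ⊓ QO x ⊓ QO y ≤ k.UU h f ⊓ QO x ∧
      ∀ s ∈ k.UU h (e * f) ⊓ QO x ⊓ QO y, s ≠ 1 → e ∈ SS A s := fun e he e1 => by
    have c1 := k.half_UU h (k.UU_le h (g := e * f)) hx X.b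
    have c2 := k.half_UU h (X := k.UU h (e * f) ⊓ QO x) (inf_le_left.trans (k.UU_le h)) hy Y.b
    rw [k.card_UU h (mul_mem (k.SS_le he.2) (k.SS_le f1.2)) (fun r => e1 (k.SS_inf h hx X.b hy Y.b n
      he.2 (((SS A y).mul_mem_cancel_right f1.2).1 (le_SS _ _ r)))) (S.sq _ (mul_mem he.1 f1.1))] at c1
    have c3 : ∀ s ∈ k.UU h (e * f) ⊓ QO x ⊓ QO y, s ≠ 1 → e ∈ SS A s := fun s a s1 =>
      k.SS_split h hx X.b hy Y.b n (k.UU_le h a.1.1) (k.UU_sing h s a.1.1 s1).1 a.1.2 a.2 he.2 f1.2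
        (k.UU_SS h a.1.1 s1)
    exact ⟨by omega, fun s a => ⟨(em (s = 1)).elim Or.inl fun s1 => k.mem_UU h f3 (k.UU_le h a.1.1)
      (k.UU_sing h s a.1.1 s1).1 (((SS A s).mul_mem_cancel_left (c3 s a s1)).1 (k.UU_SS h a.1.1 s1)),
      a.1.2⟩, c3⟩
  obtain ⟨p1, p2, p3⟩ := Z e e2 fun r => e3 ⟨e2.1, r⟩
  obtain ⟨q1, q2, q3⟩ := Z e' e4 e5
  have c1 := card_sup_mul_card_inf (H := k.UU h (e * f) ⊓ QO x ⊓ QO y)
    (N := k.UU h (e' * f) ⊓ QO x ⊓ QO y) fun a r => centralizer_le_normalizer _ fun b q =>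
      k.comm (k.UU_le h q.1.1) (k.UU_le h r.1.1)
  have c2 := card_le_card_of_le (sup_le p2 q2)
  have c3 := two_le (inf_le_left : k.UU h f ⊓ QO x ≤ _) (k.mem_UU h f3 hy Y.b f1.2) fun r => n r.2
  have c4 := k.card_sing (k.UU_sing h (g := f)) (k.UU_le h)
  obtain ⟨s, s1, s2⟩ := exists_not_mem (X := k.UU h (e * f) ⊓ QO x ⊓ QO y ⊓
    (k.UU h (e' * f) ⊓ QO x ⊓ QO y)) (Y := ⊥) (by rw [card_bot]; nlinarith)
  obtain ⟨s, t1, t2, t3, t4, t5⟩ := fx f1.1 inf_le_left (p2 s1.1).1 s2 s1.1.1.2 (e6.trans (sup_le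
    (sup_le (le_SS _ _) (zpowers_le.2 (p3 s s1.1 s2))) (zpowers_le.2 (q3 s s1.2 s2))))
  have c5 := two_le (le_inf inf_le_left t5) ⟨f1.1, t4⟩
    fun r => f3 (k.SS_inf h hx X.b hy Y.b n r.2 f1.2)
  have c6 := upper k X t2 t3 t1
  omega

theorem caseA : E ≤ A := fun t ht => by
  have h := m.b0
  refine m.caseA1 S k X Y hx hy n ⟨ht, by_contra fun t1 => ?_⟩
  have tN := k.norm_of h hx X.b (le_SS _ _ hy) n (S.comm ht X.mem) (S.comm ht Y.mem)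
  have tt := S.sq t ht
  have mem : ∀ {s a}, a ∈ A → t * a * t⁻¹ = s * a → s ∈ A := fun ha e =>
    (mul_mem_cancel_right ha).1 (e ▸ conj_mem_of_mem_normalizer tN ha)
  have fx : ∀ {s a}, a ∈ A → t * a * t⁻¹ = s * a → t * s * t⁻¹ = s := fun {s a} ha e => by
    have : t * (t * a * t⁻¹) * t⁻¹ = a := by
      rw [show t * (t * a * t⁻¹) * t⁻¹ = t * t * a * (t * t)⁻¹ by group, tt]; simp
    rw [e, conj_mul_conj, e, ← mul_assoc, mul_eq_right] at this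
    exact (eq_inv_of_mul_eq_one_left this).trans (inv_eq (k.sq s (mem ha e)))
  have ml : ∀ {s a s' a'}, a ∈ A → t * a * t⁻¹ = s * a → a' ∈ A → t * a' * t⁻¹ = s' * a' →
      t * (a * a') * t⁻¹ = s * s' * (a * a') ∧ bb z s s' = 0 := fun {s a s' a'} ha e ha' e' =>
    ⟨by rw [conj_mul_conj, e, e', mul_assoc s, ← mul_assoc a, k.comm ha (mem ha' e')]; group,
      k.bb_fix ha (mem ha e) (mem ha' e') e (fx ha' e')⟩
  obtain ⟨s, s1, s2⟩ : ∃ s, IsConj z s ∧ ∃ a ∈ A, t * a * t⁻¹ = s * a := by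
    by_contra H
    obtain ⟨b, hb, b1⟩ : ∃ b ∈ A, t * b * t⁻¹ ≠ b := by
      by_contra m
      push Not at m
      exact t1 (mem_centralizer_of_conj_eq m)
    have e : ∀ a, t * a * t⁻¹ = t * a * t⁻¹ * a⁻¹ * a := fun a => by group
    refine t1 (k.refl t tN _ (mem hb (e b)) (fun r => H ⟨_, r, b, hb, e b⟩) fun a ha =>
      or_iff_not_imp_left.2 fun a1 => ?_)
    have := qq_mul z (t * a * t⁻¹ * a⁻¹) (t * b * t⁻¹ * b⁻¹)
    rw [(ml ha (e a) hb (e b)).2, qq_eq_one.2 ⟨mt mul_inv_eq_one.1 a1, fun r => H ⟨_, r, a, ha, e a⟩⟩,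
      qq_eq_one.2 ⟨mt mul_inv_eq_one.1 b1, fun r => H ⟨_, r, b, hb, e b⟩⟩] at this
    rw [e a, mul_left_inj]
    exact by_contra fun r => mul_ne (k.sq _ (mem hb (e b))) r ((qq_eq_zero.1 this).resolve_right
      fun r => H ⟨_, r, _, mul_mem ha hb, (ml ha (e a) hb (e b)).1⟩)
  have RN : R ≤ 𝐍(A) := fun r hr =>
    k.norm_of h hx X.b (le_SS _ _ hy) n (S.cm hr X.mem) (S.cm hr Y.mem)
  obtain ⟨s, ⟨bs, a, ha, e⟩, c⟩ := exists_fix S.pR (fun s => IsConj z s ∧ ∃ a ∈ A, t * a * t⁻¹ = s * a)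
    (fun s a => h.sq a.1) (fun s s' ⟨b, a, ha, e⟩ ⟨b', a', ha', e'⟩ n => ⟨h.mul b b'
      ((k.memQ s (mem ha e) b s' (mem ha' e')).2 (ml ha e ha' e').2) n, _, mul_mem ha ha',
      (ml ha e ha' e').1⟩)
    (fun r hr s ⟨b, a, ha, e⟩ => ⟨(isConj_conj r).2 b, _, conj_mem_of_mem_normalizer (RN hr) ha, by
      rw [conj_mul, ← e, show t * (r * a * r⁻¹) * t⁻¹ = t * r * a * (t * r)⁻¹ by group,
        ← S.cm hr ht]; group⟩)
    ⟨s1, s2⟩ (h.ne s1)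
  have l : E ⊓ A ≤ E ⊓ QO s := fun f hf => ⟨hf.1, (k.memQ s (mem ha e) bs f hf.2).2
    (k.bb_fix ha (mem ha e) hf.2 e (conj_eq_iff.2 (S.comm ht hf.1)))⟩
  have a1 := card_le_card_of_le l
  have a2 := X.le s (S.pr x X.mem X.b s (h.symm bs X.b (l ⟨X.mem, hx⟩).2) (h.sq bs) c) bs
  have a3 := m.lower S k hx X.b Y.mem (le_SS _ _ hy) n
  have a4 := card_le_card_of_le (H := E ⊓ SS A x) (K := E ⊓ A) fun f hf =>
    ⟨hf.1, m.caseA1 S k X Y hx hy n ⟨hf.1, k.SS_le hf.2⟩⟩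
  have a5 : 0 < Nat.card ↥(E ⊓ QO x) := Nat.card_pos
  omega

end Mo

end CF.Mx
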