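import Cfsg.Agent.Mx.E

/-! Maximal 2-local subgroups of the Monster: non-adjacent pairs with conjugate product. -/

set_option autoImplicit false

namespace CF.Mx

open Cfsg Subgroup CF.Loc CF.Even CF.LX

variable {G : Type*} [Group G]

/-- a commuting non-adjacent pair with sixteen common neighbours -/
structure Bp (z : G) (T : Subgroup G) (p : G) (A B : Subgroup G) (x y : G) : Prop
    extends Two z T p A B where
  x1 : x ∈ A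
  x2 : x ∈ Lc T
  x3 : x ∉ B
  bx : IsConj z x
  y1 : y ∈ B
  y2 : y ∈ Lc T
  y3 : y ∉ A
  by' : IsConj z y
  n : y ∉ QO x

variable [Finite G] {z a b e f g p s t x y : G} {A A₀ B E R T : Subgroup G}

theorem Ark.exists_Q (k : Ark z A) (h : B0 z) (n : Sing z T) (l : T ≤ A) (c : 2 < Nat.card T)
    (e : ∀ t ∈ T, t ≠ 1 → g ∈ SS A t) : ∃ t ∈ T, t ≠ 1 ∧ g ∈ QO t := by
  obtain ⟨s, hs, s1, -⟩ := exists_ne c 1
  obtain ⟨t, ht, t1, ts⟩ := exists_ne c s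
  by_cases a : g ∈ QO s
  · exact ⟨s, hs, s1, a⟩
  by_cases b : g ∈ QO t
  · exact ⟨t, ht, t1, b⟩
  exact ⟨_, mul_mem hs ht, mul_ne (k.sq t (l ht)) ts.symm, k.lin h (l hs) (n s hs s1).1 (l ht)
    (n t ht t1).1 ((n s hs s1).2 ht) ts.symm (e s hs s1) (e t ht t1) a b⟩

namespace Bp
variable (w : Bp z T p A B x y) (h : B0 z)
include w h

theorem symm : Bp z T p B A y x :=
  ⟨w.toTwo.symm, w.y1, w.y2, w.y3, w.by', w.x1, w.x2, w.x3, w.bx, mt (h.symm w.by' w.bx) w.n⟩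

theorem yS : y ∈ SS A x := w.mem_SS h w.x1 w.x2 w.x3 w.bx w.y1 w.y2 w.y3

theorem xU : x ∈ w.k1.UU h y := w.k1.mem_UU h w.y3 w.x1 w.bx (w.yS h)

theorem cU : Nat.card (w.k1.UU h y) = 32 := w.k1.card_UU h (w.cc h w.y1) w.y3 (h.sq w.by')

theorem TQ (ht : t ∈ T) : t ∈ QO y := (em (t = 1)).elim (fun e => e ▸ one_mem _) fun e =>
  h.symm (w.sT t ht e).1 w.by' (mem_Lc.1 w.y2 t ht e)

theorem T_eq : T = w.k1.UU h y ⊓ QO y := by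
  have := two_le (inf_le_left : w.k1.UU h y ⊓ QO y ≤ _) (w.xU h) fun r => (w.symm h).n r.2
  exact eq_of_le_of_card_le (le_inf (w.le_UU h w.y1 w.y2 w.y3) fun _ => w.TQ h)
    (by rw [w.cU h] at this; rw [w.cT]; omega)

theorem nA (e1 : g * x = x * g) (e2 : g * y = y * g) : g ∈ 𝐍(A) :=
  w.k1.norm_of h w.x1 w.bx (w.yS h) w.n e1 e2

theorem nT (e1 : g * x = x * g) (e2 : g * y = y * g) (ht : t ∈ T) : g * t * g⁻¹ ∈ T :=
  (w.T_eq h).ge ⟨conj_mem_of_mem_normalizer (w.k1.UU_norm h (w.nA h e1 e2) e2) ((w.T_eq h).le ht).1,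
    conj_QO e2 (w.TQ h ht)⟩

theorem inL (a1 : a ∈ B) (a2 : a ∈ SS A x) : a ∈ Lc T := mem_Lc.2 fun t ht t1 => by_contra fun n => by
  have bt := (w.sT t ht t1).1
  obtain ⟨c, c1, c2, c3⟩ : ∃ c ∈ B, c ∈ QO x ∧ c ∉ QO t := by
    by_cases e : a ∈ QO x
    exacts [⟨a, a1, e, n⟩, ⟨_, mul_mem a1 w.y1, w.k1.SS_half w.x1 w.bx a2 (w.yS h) e w.n,
      by rwa [mul_mem_cancel_right (mem_Lc.1 w.y2 t ht t1)]⟩]
  have k : ∀ c ∈ B, c ∈ QO x → c ∉ QO t → ¬ IsConj z c := fun c c1 c2 c3 bc =>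
    w.x3 (w.k2.inf_le h (w.l2 ht) bt c1 bc c3 ⟨mem_Lc.1 w.x2 t ht t1, h.symm w.bx bc c2⟩)
  exact (w.k2.opp h (w.l2 ht) bt c1 c3).elim (fun e => k c c1 c2 c3 e.1) fun e =>
    k _ (mul_mem (w.l2 ht) c1) (mul_mem ((w.symm h).TQ h ht) c2)
      (by rwa [mul_mem_cancel_left (h.self bt)]) e.2

end Bp

namespace Mo
variable (m : Mo z A₀) (w : Bp z T p A B x y)
include m w

theorem dec (g1 : g ∈ 𝐂(A)) (g2 : g ∈ 𝐂(B)) (gg : g * g = 1) : ∃ a ∈ A, ∃ b ∈ B, a * b = g := by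
  have c := w.cc m.b0
  refine (mem_sup_of_le_normalizer (c.trans (centralizer_le_normalizer _))).1 (by_contra fun n => ?_)
  have a1 := card_sup_mul_card_inf' (c.trans (centralizer_le_normalizer _))
  have a2 := m.rk _ (sq_sup (sq_sup w.k1.sq w.k2.sq c) (sq_zp gg)
    (zpowers_le.2 ((centralizer_sup A B).ge ⟨g1, g2⟩)))
  have a3 := two_le (le_sup_left : _ ≤ A ⊔ B ⊔ zpowers g) (mem_sup_right (mem_zpowers g)) n
  rw [w.card_inf m.b0, w.k1.card, w.k2.card] at a1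
  omega

theorem line (e1 : e ∈ SS A x) (ee : e * e = 1) (ey : e * y = y * e) (e2 : e ∉ 𝐂(B)) :
    Nat.card ↥(w.k1.UU m.b0 e ⊓ T) = 4 ∧ Ei B (w.k1.UU m.b0 e ⊓ T) e := by
  have h := m.b0
  have n : e ∉ A ⊔ zpowers y := fun r =>
    e2 (sup_le (w.toTwo.symm.cc h) (zpowers_le.2 (w.k2.le_cen w.y1)) r)
  have a1 := w.k1.card_inter h m.hL w.x1 w.bx (w.yS h) (h.sq w.by') w.y3 e1 ee n ey
  have l := w.le_UU h w.y1 w.y2 w.y3
  have a2 := half (X := w.k1.UU h y ⊓ w.k1.UU h e) (Y := T) fun a ha b hb =>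
    mul_mem_of_card l (by rw [w.cU h, w.cT]) ha.1 hb.1
  have a3 := two_le (X := w.k1.UU h e ⊓ T) (Y := w.k1.UU h y ⊓ w.k1.UU h e) (fun a r => ⟨l r.2, r.1⟩)
    ⟨w.xU h, w.k1.mem_UU h (fun r => n (mem_sup_left r)) w.x1 w.bx e1⟩ fun r => w.x3 (w.l2 r.2)
  have a4 := card_le_card_of_le (inf_le_inf_right T (inf_le_right (a := w.k1.UU h y)
    (b := w.k1.UU h e)))
  exact ⟨by omega, fun t ht t1 a ha r => w.k1.SS_act h (w.l1 ht.2) (w.sT t ht.2 t1).1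
    (w.k1.UU_SS h ht.1 t1) r (w.cc h ha)⟩

theorem common (e1 : e ∈ SS A x) (ee : e * e = 1) (ey : e * y = y * e) (f1 : f ∈ SS B y)
    (ff : f * f = 1) (fx : f * x = x * f) (f2 : f ∉ 𝐂(A)) (fe : f * e = e * f) :
    ∃ s ∈ w.k2.UU m.b0 f ⊓ T, s ≠ 1 ∧ f ∈ QO s ∧ e ∈ QO s := by
  have h := m.b0
  obtain ⟨c4, ei⟩ := m.line (w.symm h) f1 ff fx f2
  have sZ : Sing z (w.k2.UU h f ⊓ T) := w.sT.mono inf_le_right
  have lZ : w.k2.UU h f ⊓ T ≤ A := inf_le_right.trans w.l1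
  obtain ⟨s, s1, s2, s3⟩ := w.k2.exists_Q h sZ (inf_le_right.trans w.l2) (c4.symm ▸ by decide)
    fun t ht => w.k2.UU_SS h ht.1
  by_cases e2 : e ∈ 𝐂(B)
  · obtain ⟨a, ha, b, hb, rfl⟩ := m.dec w (w.k1.SS_le e1) e2 ee
    refine ⟨s, s1, s2, s3, mul_mem (mem_Lc.1 ((w.k1.H4 sZ lZ c4 ei f2 ha).1 ?_) s s1 s2)
      (mem_Lc.1 (w.inL h hb ((mul_mem_cancel_left (le_SS _ _ ha)).1 e1)) s s1.2 s2)⟩
    rwa [mul_assoc, w.k2.SS_le f1 b hb, ← mul_assoc, ← mul_assoc, mul_left_inj, ← conj_eq_iff] at fe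
  have e3 : e ∉ A := fun r => e2 (w.toTwo.symm.cc h r)
  have u := w.k1.UU_sing h (g := e)
  by_cases c : w.k2.UU h f ⊓ T ≤ w.k1.UU h e
  · exact ⟨s, s1, s2, s3, by_contra fun n => f2 (w.k1.memK2 h (lZ s1) (sZ s s1 s2).1
      (w.k1.UU_SS h (c s1) s2) n s3 fe)⟩
  obtain ⟨a, a1, a2⟩ : ∃ a ∈ w.k1.UU h e, a ∉ Lc (w.k2.UU h f ⊓ T) := by
    by_contra r
    push Not at r
    have d := w.k1.card_Lc u (w.k1.UU_le h)
    have d' := w.k1.card_UU h (w.k1.SS_le e1) e3 ee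
    rw [d'] at d
    exact c fun t ht => (eq_of_le_of_card_le (le_inf (w.k1.UU_le h) u.le) (by omega)).ge ⟨lZ ht,
      mem_Lc.2 fun v hv v1 => (em (t = 1)).elim (fun e => e ▸ one_mem _) fun t1 =>
        h.symm (sZ t ht t1).1 (u v hv v1).1 (mem_Lc.1 (r v hv) t ht t1)⟩
  obtain ⟨b1, b2⟩ := w.k1.H4 sZ lZ c4 ei f2 (w.k1.UU_le h a1)
  obtain ⟨s, s1, s2, s3⟩ := b2.resolve_left (mt b1 a2)
  have a3 : a ≠ 1 := fun r => a2 (r ▸ one_mem _)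
  have a4 : s * a ∈ w.k1.UU h e := s3 ▸ conj_mem_of_mem_normalizer (w.k1.UU_norm h (w.nA h fx
    (w.k2.SS_le f1 y w.y1).symm) fe) a1
  have a5 : s * a ≠ 1 := s3 ▸ by simpa using a3
  have a6 : e ∈ QO (s * a) ↔ e ∈ QO a := by rw [← s3, ← conj_mem_QO (x := a) (g := f), conj_eq_iff.2 fe]
  have a7 : s * a ≠ a := by simpa using s2
  have a8 : e ∈ QO s := by
    rw [show s = s * a * a by rw [mul_assoc, h.sing_sq u a a1, mul_one]]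
    by_cases r : e ∈ QO a
    · exact h.inf_le (u _ a4 a5).1 (u a a1 a3).1 ((u _ a4 a5).2 a1) a7 ⟨a6.2 r, r⟩
    · exact w.k1.lin h (w.k1.UU_le h a4) (u _ a4 a5).1 (w.k1.UU_le h a1) (u a a1 a3).1
        ((u _ a4 a5).2 a1) a7 (w.k1.UU_SS h a4 a5) (w.k1.UU_SS h a1 a3) (mt a6.1 r) r
  exact ⟨s, s1, s2, by_contra fun n => e2 (w.k2.memK2 h (w.l2 s1.2) (sZ s s1 s2).1
    (w.k2.UU_SS h s1.1 s2) n a8 fe.symm), a8⟩

variable (S : Sk z E R) (X : Mx z E x) (Y : y ∈ E)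
include S X Y

theorem small (s1 : s ∈ T) (s2 : s ≠ 1) (s3 : s ∈ 𝐂(R)) :
    2 * Nat.card ↥(E ⊓ QO s) ≤ Nat.card ↥(E ⊓ SS A x) :=
  (Nat.mul_le_mul_left _ (X.le s (S.pr x X.mem X.b s ((w.symm m.b0).TQ m.b0 s1)
    (w.k1.sq s (w.l1 s1)) s3) (w.sT s s1 s2).1)).trans (m.lower S w.k1 w.x1 w.bx Y (w.yS m.b0) w.n)

theorem fixT {D : Subgroup G} (l : D ≤ E) (P : G → Prop) (mul : ∀ s t, P s → P t → P (s * t))
    (inv : ∀ r ∈ R, ∀ s, P s → P (r * s * r⁻¹)) (s1 : s ∈ T) (s2 : s ≠ 1) (s3 : P s)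
    (s4 : D ≤ QO s) : ∃ s ∈ T, s ≠ 1 ∧ P s ∧ D ≤ QO s ∧ s ∈ 𝐂(R) := by
  have h := m.b0
  obtain ⟨t, a, b⟩ := exists_fix S.pR (fun s => s ∈ T ∧ s ≠ 1 ∧ P s ∧ D ≤ QO s)
    (fun s a => w.k1.sq s (w.l1 a.1)) (fun s t a b n => ⟨mul_mem a.1 b.1,
      mul_ne (w.k1.sq t (w.l1 b.1)) n, mul s t a.2.2.1 b.2.2.1, (le_inf a.2.2.2 b.2.2.2).trans
        (h.inf_le (w.sT s a.1 a.2.1).1 (w.sT t b.1 b.2.1).1 ((w.sT s a.1 a.2.1).2 b.1) n)⟩)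
    (fun r hr s a => ⟨w.nT h (S.cm hr X.mem) (S.cm hr Y) a.1, by simpa using a.2.1,
      inv r hr s a.2.2.1, fun d hd => conj_eq_iff.2 (S.cm hr (l hd)) ▸ conj_mem_QO.2 (a.2.2.2 hd)⟩)
    ⟨s1, s2, s3, s4⟩ s2
  exact ⟨t, a.1, a.2.1, a.2.2.1, a.2.2.2, b⟩

theorem not_le (s1 : s ∈ T) (s2 : s ≠ 1) : ¬ E ⊓ SS A x ≤ QO s := fun l => by
  obtain ⟨t, a, b, -, c, d⟩ := m.fixT w S X Y inf_le_left (fun _ => True) (fun _ _ _ _ => trivial)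
    (fun _ _ _ _ => trivial) s1 s2 trivial l
  have := m.small w S X Y a b d
  have := card_le_card_of_le (le_inf inf_le_left c)
  have : 0 < Nat.card ↥(E ⊓ SS A x) := Nat.card_pos
  omega

theorem mem_of_half (s1 : s ∈ T) (s2 : s ≠ 1) (s3 : s ∈ 𝐂(R))
    (H : ∀ a ∈ E ⊓ SS A x, ∀ b ∈ E ⊓ SS A x, a ∉ QO s → b ∉ QO s → a * b ∈ QO s)
    (f1 : f ∈ E) (f2 : f ∈ QO s) : f ∈ SS A x := by_contra fun n => by
  have := m.small w S X Y s1 s2 s3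
  have := half H
  have := two_le (X := E ⊓ SS A x ⊓ QO s) (Y := E ⊓ QO s) (fun _ a => ⟨a.1.1, a.2⟩) ⟨f1, f2⟩
    fun a => n a.1.2
  have : 0 < Nat.card ↥(E ⊓ SS A x) := Nat.card_pos
  omega

theorem caseL : E ⊓ SS B y ≤ 𝐂(A) := fun f hf => by_contra fun f2 => by
  have h := m.b0
  have C := fun e (he : e ∈ E ⊓ SS A x) => m.common w he.2 (S.sq e he.1) (S.comm he.1 Y) hf.2
    (S.sq f hf.1) (S.comm hf.1 X.mem) f2 (S.comm hf.1 he.1)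
  obtain ⟨s, s1, s2, s3, -⟩ := C 1 (one_mem _)
  obtain ⟨s, s1, s2, s3, s4, s5⟩ := m.fixT w S X Y (zpowers_le.2 hf.1) (· ∈ w.k2.UU h f)
    (fun _ _ => mul_mem) (fun r hr s => conj_mem_of_mem_normalizer (w.k2.UU_norm h
      ((w.symm h).nA h (S.cm hr Y) (S.cm hr X.mem)) (S.cm hr hf.1))) s1.2 s2 s1.1 (zpowers_le.2 s3)
  have c4 := (m.line (w.symm h) hf.2 (S.sq f hf.1) (S.comm hf.1 X.mem) f2).1
  obtain ⟨t, t1, t2, t3⟩ := exists_ne (X := w.k2.UU h f ⊓ T) (c4.symm ▸ by decide) s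
  have bs := (w.sT s s1 s2).1
  have bt := (w.sT t t1.2 t2).1
  have st := mul_mem s1 t1.2
  have st1 := mul_ne (h.sq bt) t3.symm
  refine f2 (w.k1.SS_le (m.mem_of_half w S X Y s1 s2 s5 (cover (B := QO t) (C := QO (s * t))
    (fun a r => S.sq a r.1) (fun e he => ?_) ?_ (m.not_le w S X Y t1.2 t2) (m.not_le w S X Y st st1))
    hf.1 (s4 (mem_zpowers f))))
  · obtain ⟨r, r1, r2, -, r3⟩ := C e he
    rcases mem_four c4.le ⟨s3, s1⟩ t1 s2 t2 t3.symm (h.sq bs) r1 with c | c | c | c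
    exacts [absurd c r2, Or.inl (c ▸ r3), Or.inr (Or.inl (c ▸ r3)), Or.inr (Or.inr (c ▸ r3))]
  · have := h.inf_le (w.sT _ st st1).1 bt ((w.sT _ st st1).2 t1.2) (by simpa using s2)
    rwa [mul_assoc, h.sq bt, mul_one, inf_comm] at this

omit X Y in
theorem decX (l : E ⊓ SS A x ≤ 𝐂(B)) (he : e ∈ E ⊓ SS A x) :
    ∃ a ∈ A, ∃ b ∈ B, b ∈ Lc T ∧ a * b = e := by
  obtain ⟨a, ha, b, hb, rfl⟩ := m.dec w (w.k1.SS_le he.2) (l he) (S.sq e he.1)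
  exact ⟨a, ha, b, hb, w.inL m.b0 hb ((mul_mem_cancel_left (le_SS _ _ ha)).1 he.2), rfl⟩

omit X Y in
theorem SS_T (l : E ⊓ SS A x ≤ 𝐂(B)) (he : e ∈ E ⊓ SS A x) (ht : t ∈ T) (t1 : t ≠ 1) :
    e ∈ SS A t := by
  obtain ⟨a, ha, b, hb, c, rfl⟩ := m.decX w S l he
  exact mul_mem (le_SS _ _ ha) (W_le (mem_Lc.1 c t ht t1) (w.cc m.b0 hb))

omit Y in
theorem caseB (Y : Mx z E y) : False := by
  have h := m.b0
  have w' := w.symm h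
  have l1 := m.caseL w' S Y X.mem
  have l2 := m.caseL w S X Y.mem
  obtain ⟨s, s1, s2, -⟩ := exists_ne (X := T) (w.cT.symm ▸ by decide) 1
  obtain ⟨s, s1, s2, -, -, s3⟩ := m.fixT w S X Y.mem bot_le (fun _ => True) (fun _ _ _ _ => trivial)
    (fun _ _ _ _ => trivial) s1 s2 trivial bot_le
  have bs := (w.sT s s1 s2).1
  have D : ∀ f ∈ E ⊓ SS B y, f ∈ QO s → f ∈ Lc T := fun f hf f1 => by
    obtain ⟨a, ha, b, hb, c, rfl⟩ := m.decX w S l1 ⟨hf.1, m.mem_of_half w S X Y.mem s1 s2 s3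
      (fun a ha b hb => w.k1.SS_half (w.l1 s1) bs (m.SS_T w S l1 ha s1 s2) (m.SS_T w S l1 hb s1 s2))
      hf.1 f1⟩
    exact mul_mem (w'.inL h ha ((mul_mem_cancel_right (le_SS _ _ hb)).1 hf.2)) c
  obtain ⟨g, g1, g2⟩ := SetLike.not_le_iff_exists.1 (m.not_le w' S Y X.mem s1 s2)
  obtain ⟨t, t1, t2, t3⟩ := w.k2.exists_Q h w.sT w.l2 (w.cT.symm ▸ by decide)
    fun t => m.SS_T w' S l2 g1
  refine m.not_le w' S Y X.mem t1 t2 fun f hf => (em (f ∈ QO s)).elim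
    (fun r => mem_Lc.1 (D f hf r) t t1 t2) fun r => (mul_mem_cancel_right t3).1 (mem_Lc.1
      (D _ (mul_mem hf g1) (w.k2.SS_half (w.l2 s1) bs (m.SS_T w' S l2 hf s1 s2)
        (m.SS_T w' S l2 g1 s1 s2) r g2)) t t1 t2)

omit w Y in
/-- a non-adjacent pair of extremal elements lies in an orthogonal subgroup containing `E` -/
theorem core (Y : Mx z E y) (n : y ∉ QO x) : ∃ A, Ark z A ∧ E ≤ A := by
  have h := m.b0
  rcases m.tri2 X.b (h.sq Y.b) (S.comm Y.mem X.mem) n S.pR (fun r hr => S.cm hr X.mem)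
    fun r hr => S.cm hr Y.mem with ⟨A, k, x1, y1⟩ | ⟨s, s1, s2, s3, s4, s5⟩
  · by_cases y2 : y ∈ A
    · exact ⟨A, k, m.caseA S k X Y x1 y2 n⟩
    have u := k.UU_sing h (g := y)
    have xU := k.mem_UU h y2 x1 X.b y1
    have sT := u.mono (inf_le_left (b := QO y))
    have a1 := k.card_UU h (k.SS_le y1) y2 (h.sq Y.b)
    have a2 := two_le (inf_le_left : k.UU h y ⊓ QO y ≤ _) xU fun r => n (h.symm Y.b X.b r.2)
    have a3 := half (X := k.UU h y) (Y := QO y) fun a ha b hb a1 b1 => by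
      have a2 : a ≠ 1 := fun e => a1 (e ▸ one_mem _)
      have b2 : b ≠ 1 := fun e => b1 (e ▸ one_mem _)
      by_cases e : a = b
      · rw [e, h.sing_sq u b hb]; exact one_mem _
      exact h.symm (h.mul (u a ha a2).1 (u b hb b2).1 ((u a ha a2).2 hb) e) Y.b (k.lin h
        (k.UU_le h ha) (u a ha a2).1 (k.UU_le h hb) (u b hb b2).1 ((u a ha a2).2 hb) e
        (k.UU_SS h ha a2) (k.UU_SS h hb b2) (mt (h.symm (u a ha a2).1 Y.b) a1)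
        (mt (h.symm (u b hb b2).1 Y.b) b1))
    obtain ⟨p, f⟩ := m.fa sT (by omega)
    have yL : y ∈ Lc (k.UU h y ⊓ QO y) := mem_Lc.2 fun t ht t1 => h.symm Y.b (u t ht.1 t1).1 ht.2
    obtain ⟨B, k', l, -, y3⟩ := f.cov y yL
    have ne : A ≠ B := fun e => y2 (e ▸ y3)
    obtain ⟨a, ha, e⟩ := k.exists_SS x1 y1
    exact (m.caseB ⟨m.tw f k (inf_le_left.trans (k.UU_le h)) k' l ne, x1, Lc_anti inf_le_left (u.le xU),
      fun r => ne (k'.can2 h k r x1 X.b y3 ha n e).symm, X.b, y3, yL, y2, Y.b, n⟩ S X Y).elim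
  · have a1 := X.le s (S.pr x X.mem X.b s s1 (h.sq s2) s4) s2
    have a2 := two_le (X := E ⊓ QO x) (Y := E ⊓ QO s)
      (fun q r => ⟨r.1, s5 q r.2 (S.sq q r.1) (S.comm r.1 Y.mem)⟩) ⟨Y.mem, s3⟩ fun r => n r.2
    have : 0 < Nat.card ↥(E ⊓ QO x) := Nat.card_pos
    omega

end Mo

end CF.Mx
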