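import Cfsg.Agent.Mx.A
import Cfsg.Agent.Mon.Loc5
import Cfsg.Agent.MonU.E3
import Cfsg.Agent.Mon.RkN

/-! Maximal 2-local subgroups of the Monster: the standard frame in the model. -/

set_option autoImplicit false

namespace CF.Mx

open Cfsg Subgroup CF.Leech CF.Mon CF.Mon.G CF.Mon.L CF.Mon.Lab CF.Known.Mon CF.LX CF.Loc CF.Even

variable {Γ : Type*} [Group Γ] {ρ : Gt →* Γ} {τ : Γ} (h : Out ρ τ)
include h

theorem QO_x : QO (ρ (pauli xc)) = QQ ρ := by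
  have := h.finite
  obtain ⟨M, -⟩ := h.exists_MT
  exact le_antisymm (MT_core M _ (isPGroup_pCoreOf 2 _) (pCoreOf_le _ _) (le_normalizer_pCoreOf _ _))
    M.lq.le_core

theorem b0 : B0 (ρ (pauli xc)) := by
  rw [B0, QO_x h]
  exact ⟨h.exists_MT.choose⟩

theorem pauli_mem (p : Lab) : ρ (pauli p) ∈ QO (ρ (pauli xc)) := QO_x h ▸ pauli_mem_QQ ρ p

theorem mem_QO_x {g : Γ} : g ∈ QO (ρ (pauli xc)) ↔ ∃ p, ρ (pauli p) = g := QO_x h ▸ mem_QQ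

theorem conj_Z : τ⁻¹ * ρ (pauli xc) * τ⁻¹⁻¹ = ρ (pauli (Z 11)) := by
  rw [inv_inv, mul_assoc, ← h.r0.tau_z, inv_mul_cancel_left]

theorem isConj_Z : IsConj (ρ (pauli xc)) (ρ (pauli (Z 11))) := isConj_iff.2 ⟨_, conj_Z h⟩

theorem Z_ne : ρ (pauli (Z 11)) ≠ ρ (pauli xc) := by rw [Ne, h.inj]; decide +kernel

theorem diag_iff {p : Lab} : ρ (pauli p) ∈ QO (ρ (pauli (Z 11))) ↔ p.a = 0 := by
  have k : ∀ p : Lab, p.a = 0 → ρ (pauli p) ∈ QO (ρ (pauli (Z 11))) := fun p hp => by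
    obtain ⟨q, a, b⟩ := MonU.th_inv h.r0 (p := p) hp
    obtain ⟨r, -, c⟩ := MonU.th_inv h.r0 a
    have := (conj_mem_QO (g := τ⁻¹)).2 (pauli_mem h r)
    rwa [conj_Z h, ← c, ← b, show τ⁻¹ * (τ⁻¹ * (τ⁻¹ * ρ (pauli p) * τ) * τ) * τ⁻¹⁻¹ =
      (τ ^ 3)⁻¹ * ρ (pauli p) * τ ^ 3 by
        simp only [pow_succ, pow_zero, one_mul, mul_inv_rev, inv_inv, mul_assoc], h.r0.cube, inv_one, one_mul,
      mul_one] at this
  refine ⟨fun a => funext fun i => (z2 _).resolve_right fun e => ?_, k p⟩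
  have := (b0 h).cases (isConj_Z h) a (k (Z i) rfl)
  rw [rho_conj, pauli_smul', bf_Z', e, rho_pauli_mul, h.inj, h.inj, mul_eq_right, mul_left_inj]
    at this
  revert this
  decide +kernel

theorem lam_Z : G.lam (Z 11) = w8 := by rw [← cls_e8 (pt 11), lam_cls, red_e8']

theorem to_Z {s : Γ} (a : s ∈ QO (ρ (pauli xc))) (b : IsConj (ρ (pauli xc)) s)
    (c : s ≠ ρ (pauli xc)) : ∃ γ, ρ γ * s * (ρ γ)⁻¹ = ρ (pauli (Z 11)) := by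
  have := h.finite
  obtain ⟨M, e, -⟩ := h.exists_MT
  rw [QO_x h] at a
  obtain ⟨v, n, m⟩ := (M.conj_iff a).1 ⟨b, c⟩
  obtain ⟨w, n', m'⟩ := (M.conj_iff (pauli_mem_QQ ρ _)).1 ⟨isConj_Z h, Z_ne h⟩
  obtain ⟨g, k, f⟩ := M.trans a (pauli_mem_QQ ρ _) m m' (n.trans n'.symm) (Or.inr (Or.inr n))
  obtain ⟨γ, rfl⟩ := h.cx.le k
  exact ⟨γ, f⟩

end CF.Mx
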