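import Cfsg.Agent.Mx.M0
import Cfsg.Agent.Geom.Families

/-! Maximal 2-local subgroups of the Monster: the orthogonal subgroup in the model. -/

set_option autoImplicit false

namespace CF.Mx

open Cfsg Subgroup CF.Leech CF.Mon CF.Mon.G CF.Mon.L CF.Mon.Lab CF.Known.Mon CF.LX CF.Loc CF.Even
open Function Sum CF.Geom QuadraticMap Module CF.Mon.L.Out

namespace M1

theorem cnt0 : {v : V10 | v ≠ 0 ∧ qPlus 5 (ZMod 2) v = 0}.ncard = 527 := by
  rw [Set.ncard_eq_toFinset_card', Set.toFinset_setOf]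
  simp only [qPlus_apply]
  decide +kernel

theorem exists_om {u v : V10} (u0 : u ≠ 0) (v0 : v ≠ 0) (hu : qPlus 5 (ZMod 2) u = 0)
    (hv : qPlus 5 (ZMod 2) v = 0) : ∃ g : commutator (OG (qPlus 5 (ZMod 2))), g.1.1 u = v := by
  have s : ∀ {u : V10}, qPlus 5 (ZMod 2) u = 0 → ∀ w ∈ (ZMod 2) ∙ u, qPlus 5 (ZMod 2) w = 0 :=
    fun hu w hw => by
      obtain ⟨c, rfl⟩ := Submodule.mem_span_singleton.1 hw
      rw [QuadraticMap.map_smul, hu, smul_zero]
  obtain ⟨g, hg, e⟩ := exists_mem_commutator_totally_singular (qPlus_nondegenerate 5)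
    (reflSub_eq_top (qPlus_nondegenerate 5) (Or.inr (by simp))) (s hu) (s hv)
    (by rw [finrank_span_singleton u0, finrank_span_singleton v0])
    (by rw [finrank_span_singleton v0]; simp)
  obtain ⟨c, k⟩ := Submodule.mem_span_singleton.1
    (e.le (Submodule.mem_map_of_mem (Submodule.mem_span_singleton_self u)))
  refine ⟨⟨g, hg⟩, ?_⟩
  rcases z2 c with rfl | rfl
  · exact absurd ((zero_smul _ v).symm.trans k).symm (g.1.map_ne_zero_iff.2 u0)
  · exact ((one_smul _ v).symm.trans k).symm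

theorem not_refl {w : V10} (hw : qPlus 5 (ZMod 2) w ≠ 0) :
    oRefl (qPlus 5 (ZMod 2)) w ∉ commutator (OG (qPlus 5 (ZMod 2))) := fun c => by
  obtain ⟨δ, -, k, r⟩ := exists_surjective_ker_eq_commutator_even (qPlus_nondegenerate 5) rfl
    (reflSub_eq_top (F := ZMod 2) (qPlus_nondegenerate 5) (Or.inr (by simp)))
  rw [← k, MonoidHom.mem_ker, r w hw] at c
  exact absurd c (by decide)

variable {Γ : Type*} [Group Γ] {ρ : Gt →* Γ} {τ : Γ} (h : Out ρ τ)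
include h

theorem f_ne {v : V10} (hv : v ≠ 0) : f10 ρ v ≠ 1 := fun e =>
  hv (f10_inj h (e.trans f10_zero.symm))

theorem qq_f (v : V10) : qq (ρ (pauli xc)) (f10 ρ v) = qPlus 5 (ZMod 2) v := by
  by_cases e : v = 0
  · rw [e, f10_zero, map_zero, qq_eq_zero.2 (Or.inl rfl)]
  · refine (show ∀ a b : ZMod 2, (a = 0 ↔ b = 0) → a = b by decide) _ _ ?_
    rw [qq_eq_zero, or_iff_right (f_ne h e), conj_iff h e]

theorem bb_f (u v : V10) :
    bb (ρ (pauli xc)) (f10 ρ u) (f10 ρ v) = polar (qPlus 5 (ZMod 2)) u v := by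
  rw [bb, ← f10_add h, qq_f h, qq_f h, qq_f h, polar, CharTwo.sub_eq_add, CharTwo.sub_eq_add]

theorem f_mem {v : V10} : f10 ρ v ∈ QQ ρ ↔ v (inr 0) = 0 := by
  refine ⟨fun a => by_contra fun c => ?_, fun c => f10_of (ρ := ρ) c ▸ pauli_mem_QQ ρ _⟩
  rw [f10, if_neg c, mul_mem_cancel_left (pauli_mem_QQ ρ _), mem_QQ_iff h, yP, map_mul, gOf_pauli,
    one_mul, gOf_yE] at a
  exact eps_ne o1_mem _ a

theorem move {u : Γ} (hu : u ∈ E10 h) (c : IsConj (ρ (pauli xc)) u) :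
    ∃ g ∈ 𝐍(E10 h), u = g * ρ (pauli xc) * g⁻¹ := by
  obtain ⟨v, rfl⟩ := hu
  have v0 : v ≠ 0 := by
    rintro rfl
    rw [f10_zero, isConj_one_left] at c
    exact h.x_ne c
  obtain ⟨θ, a, b⟩ := exists_theta h
  obtain ⟨k, e⟩ := exists_om (u := Pi.single (inl 0) 1) (by decide) v0
    (by rw [qPlus_apply]; decide) ((conj_iff h v0).1 c)
  obtain ⟨g, rfl⟩ := a k
  exact ⟨g, g.2, by rw [← e, b, f10_x]⟩

end M1

open M1

variable {Γ : Type*} [Group Γ] {ρ : Gt →* Γ} {τ : Γ} (h : Out ρ τ)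

theorem ark : Ark (ρ (pauli xc)) (E10 h) where
  sq := by
    rintro _ ⟨v, rfl⟩
    rw [← f10_add h, CharTwo.add_self_eq_zero, f10_zero]
  card := (Nat.card_range_of_injective (f10_inj h)).trans (by simp)
  add := by
    rintro _ ⟨u, rfl⟩ _ ⟨v, rfl⟩ _ ⟨w, rfl⟩
    rw [← f10_add h, bb_f h, bb_f h, bb_f h, polar_add_right]
  nd := by
    rintro _ ⟨u, rfl⟩ k
    rw [(qPlus_nondegenerate 5).1 u fun v => (bb_f h u v).symm.trans (k _ (f10_mem h v)), f10_zero]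
  cnt := by
    rw [← cnt0, ← Set.ncard_image_of_injective _ (f10_inj h)]
    congr 1
    ext a
    constructor
    · rintro ⟨⟨v, rfl⟩, c⟩
      have v0 : v ≠ 0 := by
        rintro rfl
        rw [f10_zero, isConj_one_left] at c
        exact h.x_ne c
      exact ⟨v, ⟨v0, (conj_iff h v0).1 c⟩, rfl⟩
    · rintro ⟨v, ⟨a, b⟩, rfl⟩
      exact ⟨f10_mem h v, (conj_iff h a).2 b⟩
  nrm u hu c := by
    obtain ⟨g, hg, rfl⟩ := move h hu c
    rw [← cj_QO, ← cj_eq_self hg, ← cj_normalizer, cj_le_cj_iff, QO_x h]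
    rintro _ ⟨q, rfl⟩
    exact norm_of h fun p hp => mem_of_eqv xc_R9 (by rw [pauli_smul']; exact xp_eqv _ _) hp
  memQ u hu c := by
    obtain ⟨g, hg, rfl⟩ := move h hu c
    rw [← cj_eq_self hg, forall_cj]
    rintro _ ⟨v, rfl⟩
    rw [conj_mem_QO, bb_conj, QO_x h, f_mem h, ← polar_x v, ← bb_f h, f10_x]
  cen u hu c := by
    obtain ⟨g, hg, rfl⟩ := move h hu c
    rw [← cj_QO, ← cj_eq_self hg, ← cj_inf, ← cj_centralizer, ← cj_centralizer, cj_le_cj_iff, QO_x h,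
      cent_E10 h]
    exact centralizer_le (le_inf (EE_le h) (by rintro _ ⟨p, -, rfl⟩; exact ⟨p, rfl⟩))
  cardK := card_cent h
  ctr := (center_E10 h).le
  refl t ht := by
    rintro _ ⟨w, rfl⟩ c k
    obtain ⟨θ, -, b⟩ := exists_theta h
    have k' : ∀ v, (θ ⟨t, ht⟩).1.1 v = v ∨ (θ ⟨t, ht⟩).1.1 v = w + v := fun v =>
      (k _ (f10_mem h v)).imp (fun e => f10_inj h ((b _ v).trans e))
        fun e => f10_inj h ((b _ v).trans (e.trans (f10_add h _ _).symm))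
    suffices ∀ v, (θ ⟨t, ht⟩).1.1 v = v by
      rintro _ ⟨v, rfl⟩
      exact (conj_eq_iff.1 ((b ⟨t, ht⟩ v).symm.trans (by rw [this]))).symm
    by_contra! n
    obtain ⟨u, n⟩ := n
    have w0 : w ≠ 0 := fun e => n (by simpa [e] using k' u)
    have qw : qPlus 5 (ZMod 2) w = 1 := (z2 _).resolve_left fun e => c ((conj_iff h w0).2 e)
    have mv : ∀ v, (θ ⟨t, ht⟩).1.1 v = w + v → polar (qPlus 5 (ZMod 2)) w v = 1 := fun v e => by
      have := mem_OG.1 (θ ⟨t, ht⟩).1.2 v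
      rw [polar, ← e, this, qw]
      generalize qPlus 5 (ZMod 2) v = a
      revert a
      decide
    have mu := (k' u).resolve_left n
    refine not_refl (w := w) (by rw [qw]; decide) ?_
    refine (Subtype.ext (LinearEquiv.ext fun v => ?_) : (θ ⟨t, ht⟩).1 = oRefl _ w) ▸ (θ ⟨t, ht⟩).2
    rw [oRefl_apply, qw, inv_one, one_mul]
    rcases k' v with e | e
    · have := mv (u + v) (by rw [map_add, mu, e, add_assoc])
      rw [polar_add_right, mv u mu, add_eq_left] at this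
      rw [this, zero_smul, sub_zero, e]
    · rw [mv v e, one_smul, e, CharTwo.sub_eq_add, add_comm]

include h

theorem rk : ∀ X : Subgroup Γ, (∀ a ∈ X, a * a = 1) → Nat.card X ≤ 2 ^ 15 := fun X k =>
  Rk.leM h X ⟨⟨fun a b => Subtype.ext (comm_of_sq k a.2 b.2)⟩⟩ fun a ha => (sq a).trans (k a ha)

theorem gd : ∀ v, v * v = 1 → v * ρ (pauli xc) = ρ (pauli xc) * v → v ∉ QO (ρ (pauli xc)) →
    (∃ s ∈ QO (ρ (pauli xc)), IsConj (ρ (pauli xc)) s ∧ s ≠ ρ (pauli xc) ∧ v ∈ QO s) ∧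
      (IsConj (ρ (pauli xc)) v ∨ IsConj (ρ (pauli xc)) (ρ (pauli xc) * v)) := fun v vv c n => by
  have := h.finite
  obtain ⟨γ, rfl⟩ := of_comm_x h c
  rw [QO_x h, mem_QQ_iff h] at n
  have k := MonU.gd_of h.r0 h.x_ne vv n
  refine ⟨?_, (k.cls h.r0 h.x_ne vv c).2⟩
  obtain ⟨g, p, a, b, -⟩ := k
  have e : ∀ {y q}, g * y * g⁻¹ = ρ (pauli q) → y ∈ QO (g⁻¹ * ρ (pauli xc) * g⁻¹⁻¹) := fun {y q} e => by
    have := (conj_mem_QO (g := g⁻¹)).2 (e ▸ pauli_mem h q)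
    rwa [show g⁻¹ * (g * y * g⁻¹) * g⁻¹⁻¹ = y by group] at this
  have s : IsConj (ρ (pauli xc)) (g⁻¹ * ρ (pauli xc) * g⁻¹⁻¹) := isConj_iff.2 ⟨_, rfl⟩
  refine ⟨_, (b0 h).symm s (IsConj.refl _) (e a), s, fun m => Z_ne h ?_, e b⟩
  rw [← a]
  conv_lhs => rw [← m]
  group

end CF.Mx
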