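import Cfsg.Agent.Mx.M1

/-! Maximal 2-local subgroups of the Monster: the elements over sign changes. -/

set_option autoImplicit false

namespace CF.Mx

open Cfsg Subgroup CF.Leech CF.Mon CF.Mon.G CF.Mon.L CF.Mon.Lab CF.Known.Mon CF.LX CF.Loc CF.Even
open CF.Mon.L.Out
open scoped Pointwise

namespace M1

theorem cls_a_ev {x : LL} (r : ℤ) (h : ∀ i, (4 : ℤ) ∣ (x : V) i - 2 * r) : (cls x).a = 0 :=
  funext fun k => by
    have := h (pt k)
    have := h (pt 11)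
    rw [cls_a, Pi.zero_apply, d8_eq_zero, dt_wV]
    split_ifs <;> omega

theorem nm_dod {c : Finset Pt} (hc : c ∈ CS) (h12 : c.card = 12) {y : LL}
    (h : ∀ i, i ∉ c → (y : V) i = 0) : ∃ r : ℤ, (r = 0 ∨ r = 1) ∧
      (∀ i ∈ c, (4 : ℤ) ∣ (y : V) i - 2 * r) ∧ (32 : ℤ) ∣ nm y - 16 * r := by
  obtain ⟨m, d, hm, hd, h4, hs⟩ := exists_LS y.2
  obtain ⟨j, hj⟩ : ∃ j, j ∉ c := by
    by_contra! k
    rw [Finset.eq_univ_of_forall k, Finset.card_univ, card_pts] at h12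
    omega
  obtain rfl : m = 0 := by
    have := h4 j
    rw [h j hj] at this
    omega
  have sub : d ⊆ c := fun i hi => by
    by_contra k
    have := h4 i
    rw [h i k, ((ind_cases d i).resolve_right fun a => a.1 hi).2] at this
    omega
  have k : (32 : ℤ) ∣ ∑ i, ((y : V) i ^ 2 - 4 * ind d i - (1 - ind d i) * (4 * (y : V) i)) :=
    Finset.dvd_sum fun i _ => by
      obtain ⟨a, e⟩ := h4 i
      obtain ⟨b, f⟩ := Int.even_mul_succ_self a
      obtain ⟨b', f'⟩ := Int.even_mul_pred_self a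
      rw [show (y : V) i = 4 * a + 2 * ind d i by omega]
      rcases ind_cases d i with k | k <;> rw [k.2]
      · exact ⟨b, by linear_combination 16 * f⟩
      · exact ⟨b', by linear_combination 16 * f'⟩
  rw [Finset.sum_sub_distrib, Finset.sum_sub_distrib, ← Finset.mul_sum, sum_ind] at k
  change ∃ r : ℤ, _ ∧ _ ∧ _ ∣ ∑ i, (y : V) i ^ 2 - _
  by_cases e : d = ∅
  · simp only [e, ind, Finset.notMem_empty, if_false, sub_zero, one_mul, ← Finset.mul_sum,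
      Finset.card_empty] at k h4
    exact ⟨0, .inl rfl, fun i _ => h4 i, by omega⟩
  · obtain rfl : d = c := Finset.eq_of_subset_of_card_le sub (by
      have a := card_of_mem_CS (symmDiff_mem_CS hd hc)
      have b := card_symmDiff_add d c
      have := eight_le_card hd e
      have := card_of_mem_CS hd
      rw [Finset.inter_eq_left.2 sub] at b
      omega)
    rw [Finset.sum_eq_zero (f := fun i => (1 - ind d i) * _) fun i _ => by
      rcases ind_cases d i with k | k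
      exacts [by simp [k.2], by simp [h i k.1]], h12] at k
    exact ⟨1, .inr rfl, fun i hi => by simpa [ind, hi] using h4 i, by omega⟩

theorem dod {c : Finset Pt} (hc : c ∈ CS) (h12 : c.card = 12) {u : LL}
    (f : eps hc • red u = red u) (n : (32 : ℤ) ∣ nm u) : (cls u).a = 0 := by
  rw [← red_smul, red_eq_iff] at f
  obtain ⟨y, hy⟩ := f
  have e : ∀ i, (y : V) i = -ind c i * (u : V) i := fun i => by
    have := congrArg (fun u : LL => (u : V) i) hy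
    simp only [AddSubgroup.coe_sub, Pi.sub_apply, AddSubgroup.coe_nsmul, Pi.smul_apply, eps_apply,
      nsmul_eq_mul] at this
    rcases ind_cases c i with k | k <;> simp only [k.1, k.2, if_true, if_false] at this ⊢ <;> omega
  have e' : ∀ i, ((u + y : LL) : V) i = (1 - ind c i) * (u : V) i := fun i => by
    rw [AddSubgroup.coe_add, Pi.add_apply, e]; ring
  obtain ⟨r, a, b, d⟩ := nm_dod hc h12 (y := y) fun i hi => by simp [e, ind, hi]
  obtain ⟨r', a', b', d'⟩ := nm_dod (compl_mem_CS hc)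
    (by rw [Finset.card_compl, card_pts, h12]) (y := u + y) fun i hi => by
      simp [e', ind, Finset.notMem_compl.1 hi]
  have s : nm u = nm y + nm (u + y) := by
    simp only [nm, sqNorm, ← Finset.sum_add_distrib, e, e']
    exact Finset.sum_congr rfl fun i _ => by rcases ind_cases c i with k | k <;> simp [k.2]
  obtain rfl : r = r' := by omega
  refine cls_a_ev r fun i => ?_
  rcases ind_cases c i with k | k
  · have := b i k.1
    rw [e, k.2] at this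
    omega
  · have := b' i (Finset.mem_compl.2 k.1)
    rw [e', k.2] at this
    omega

variable {Γ : Type*} [Group Γ] {ρ : Gt →* Γ} {τ : Γ} (h : Out ρ τ)
include h

theorem sg_of {γ : Gt} (a : ρ γ ∈ QO (ρ (pauli (Z 11)))) : ∃ c, ∃ hc : c ∈ CS, gOf γ = eps hc := by
  have := h.finite
  obtain ⟨M, e, r⟩ := h.exists_MT
  have p := M.pair (g := τ⁻¹) (by rw [conj_Z h]; exact Z_ne h)
    (by rw [conj_Z h]; exact pauli_mem_QQ ρ _)
  rw [show cj[τ⁻¹] (QQ ρ) = QO (ρ (pauli (Z 11))) by rw [← QO_x h, cj_QO, conj_Z h], conj_Z h] at p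
  exact mem_Sg.1 ((M.pre_B p ((e _).trans (lam_Z h))).1.le
    (M.mem_pre.2 ⟨_, ⟨a, mem_c1.2 (MonU.rho_comm_iff' γ)⟩, r γ⟩))

theorem oct {γ : Gt} {o : Finset Pt} (ho : o ∈ octads) (hc : o ∈ CS)
    (e : gOf γ = eps hc ∨ gOf γ = negCo * eps hc) : ∃ g, ρ (pauli xc) ∈ cj[g] (E10 h) ∧
      ∃ y ∈ cj[g] (E10 h), y ∉ QO (ρ (pauli xc)) ∧ ρ γ * y ∈ QO (ρ (pauli xc)) := by
  obtain ⟨σ, rfl⟩ := exists_oct ho
  obtain ⟨δ, -, k⟩ := exists_C0 σ
  have m : gOf (δ * yE.val * δ⁻¹) = eps hc := by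
    rw [map_mul, map_mul, map_inv, k, gOf_yE, perm_eps]
  have s : eps hc * eps hc = 1 := Sg_sq (mem_Sg.2 ⟨_, hc, rfl⟩)
  refine ⟨ρ δ, ?_, _, conj_mem_cj _ (y_mem h), ?_, ?_⟩
  · have := conj_mem_cj (ρ δ) (EE_le h ⟨xc, xc_R9, rfl⟩)
    rwa [MonoidHom.comp_apply, rho_conj, smul_xc] at this
  · rw [← map_inv, ← map_mul, ← map_mul, QO_x h, mem_QQ_iff h, m]
    exact eps_ne ho hc
  · rw [← map_inv, ← map_mul, ← map_mul, ← map_mul, QO_x h, mem_QQ_iff h, map_mul, m]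
    exact e.imp (fun e => by rw [e, s]) fun e => by rw [e, mul_assoc, s, mul_one]

theorem tri0 {v : Γ} (a : v ∈ QO (ρ (pauli (Z 11)))) (c : v * ρ (pauli xc) = ρ (pauli xc) * v)
    (n : v ∉ QO (ρ (pauli xc))) : (∃ g, ρ (pauli xc) ∈ cj[g] (E10 h) ∧
      ∃ y ∈ cj[g] (E10 h), y ∉ QO (ρ (pauli xc)) ∧ v * y ∈ QO (ρ (pauli xc))) ∨
      ∀ q ∈ QO (ρ (pauli xc)), q * q = 1 → q * v = v * q → q ∈ QO (ρ (pauli (Z 11))) := by
  obtain ⟨γ, rfl⟩ := of_comm_x h c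
  obtain ⟨c, hc, e⟩ := sg_of h a
  rw [QO_x h, mem_QQ_iff h, e] at n
  rcases card_of_mem_CS hc with k | k | k | k | k
  · obtain rfl := Finset.card_eq_zero.1 k
    exact (n (.inl mono_one)).elim
  · exact .inl (oct h ⟨hc, k⟩ hc (.inl e))
  · refine .inr fun q hq qq m => ?_
    obtain ⟨p, rfl⟩ := (mem_QO_x h).1 hq
    obtain ⟨u, l, l'⟩ := exists_lam p
    rw [rho_pauli_mul, h.eq_one, G.sq_iff, l'.qf, qf_cls, nq_eq_zero] at qq
    rw [diag_iff h, l'.1]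
    refine dod hc k ?_ qq
    rw [← l, ← e, ← lam_smul, (rho_comm_iff h.x_ne).1 m.symm]
  · refine .inl (oct h ⟨compl_mem_CS hc, by rw [Finset.card_compl, card_pts, k]⟩ (compl_mem_CS hc)
      (.inr ?_))
    rw [e, ← mono_neg]
    refine (Eq.trans ?_ (eps_mul univ_mem_CS _).symm)
    congr 1
    ext i
    simp [Finset.mem_symmDiff]
  · obtain rfl := Finset.eq_univ_of_card c (k.trans card_pts.symm)
    exact (n (.inr mono_neg)).elim

end M1

open M1

variable {Γ : Type*} [Group Γ] {ρ : Gt →* Γ} {τ : Γ} (h : Out ρ τ)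

theorem tri : ∀ s ∈ QO (ρ (pauli xc)), IsConj (ρ (pauli xc)) s → s ≠ ρ (pauli xc) → ∀ v ∈ QO s,
    v * ρ (pauli xc) = ρ (pauli xc) * v → v ∉ QO (ρ (pauli xc)) →
    (∃ g, ρ (pauli xc) ∈ cj[g] (E10 h) ∧
      ∃ y ∈ cj[g] (E10 h), y ∉ QO (ρ (pauli xc)) ∧ v * y ∈ QO (ρ (pauli xc))) ∨
      ∀ q ∈ QO (ρ (pauli xc)), q * q = 1 → q * v = v * q → q ∈ QO s := fun s a b c v d e n => by
  obtain ⟨γ, k⟩ := to_Z h a b c
  have x : ρ γ * ρ (pauli xc) * (ρ γ)⁻¹ = ρ (pauli xc) := by rw [rho_conj, smul_xc]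
  have m : ∀ {g}, ρ γ * g * (ρ γ)⁻¹ ∈ QO (ρ (pauli xc)) ↔ g ∈ QO (ρ (pauli xc)) := by
    intro g
    conv_lhs => rw [← x, conj_mem_QO]
  rcases tri0 h (v := ρ γ * v * (ρ γ)⁻¹) (k ▸ conj_mem_QO.2 d)
    (by conv_lhs => rw [← x, conj_mul, e, ← conj_mul, x]) (mt m.1 n) with ⟨g, p, y, q, r, t⟩ | p
  · obtain ⟨g, rfl⟩ : ∃ b, g = ρ γ * b := ⟨(ρ γ)⁻¹ * g, by group⟩
    obtain ⟨y, rfl⟩ : ∃ b, y = ρ γ * b * (ρ γ)⁻¹ := ⟨(ρ γ)⁻¹ * y * ρ γ, by group⟩
    rw [← x] at p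
    rw [cj_mul, conj_mem_cj_iff] at p q
    exact .inl ⟨g, p, y, q, mt m.2 r, m.1 (by rwa [← conj_mul])⟩
  · refine .inr fun q hq qq f => (conj_mem_QO (g := ρ γ)).1 (k ▸ p _ (m.2 hq) ?_ ?_)
    exacts [by simp [qq], by simp [f]]

end CF.Mx
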