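import Cfsg.Agent.Mx.M0

/-! Maximal 2-local subgroups of the Monster: diagonal labels and even sets of points. -/

set_option autoImplicit false

namespace CF.Mx

open Cfsg Subgroup CF.Leech CF.Mon CF.Mon.G CF.Mon.L CF.Mon.Lab CF.Known.Mon CF.LX CF.Loc CF.Even
  Matrix
open scoped symmDiff Pointwise

variable {p q : Lab} {s t δ ε c o : Finset Pt} {m : ℕ}

/-- the diagonal label `p` pairs with the code words like the set `δ` -/
def Dg (p : Lab) (δ : Finset Pt) : Prop :=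
  p.a = 0 ∧ ∀ c (hc : c ∈ CS), bf p (cls (tw hc)) = ((δ ∩ c).card : ZMod 2)

theorem tw_a (hc : c ∈ CS) (k : Fin 12) : (cls (tw hc)).a k = word c (pt k) + word c (pt 11) := by
  have : ∀ i, word c i = (ind c i : ℤ) := fun i => by
    simp only [word, ind]; split_ifs <;> simp
  rw [this, this, ← Int.cast_add, cls_a, d8_eq_iff, dt_wV, tw_apply, tw_apply]
  split_ifs with e
  · subst e; simp only [Fin.isValue, show ((11 : Fin 12) : ℕ) = 11 from rfl]; omega
  · omega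

/-- the pairing vector of a code word -/
def am (m : ℕ) : Ix := fun k => Mon.toZ m k + Mon.toZ m 11

theorem tw_am (hc : ofMask m ∈ CS) : (cls (tw hc)).a = am m := funext fun k => by
  simp only [tw_a, word, pt_mem_ofMask (show (k : ℕ) < 24 by omega),
    pt_mem_ofMask (show 11 < 24 by omega), am, Mon.toZ]

theorem cast_even {n : ℕ} : (n : ZMod 2) = 0 ↔ Even n := ZMod.natCast_eq_zero_iff_even

theorem Dg.am (h : p.a = 0) (hc : ofMask m ∈ CS) : bf p (cls (tw hc)) = p.b ⬝ᵥ am m := by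
  rw [bf, tw_am, h, dotProduct_zero, add_zero]

theorem Dg.mask (h : Dg p δ) (hm : isCode m = true) :
    p.b ⬝ᵥ Mx.am m = ((δ ∩ ofMask m).card : ZMod 2) :=
  (Dg.am h.1 _).symm.trans (h.2 _ (ofMask_mem_CS hm))

theorem Dg.even (h : Dg p δ) : Even δ.card := by
  have := h.mask (m := 16777215) (by decide +kernel)
  rwa [show Mx.am 16777215 = 0 by decide +kernel, dotProduct_zero, ofMask_full, Finset.inter_univ,
    eq_comm, cast_even] at this

theorem Dg.mul (a : Dg p s) (b : Dg q t) : Dg (p * q) (s ∆ t) :=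
  ⟨by rw [mul_a, a.1, b.1, add_zero], fun c hc => by
    rw [bf_mul, a.2, b.2, ← word_dot, ← word_dot, ← word_dot, word_symmDiff, add_dotProduct]⟩

theorem Dg.of_eqv (a : Dg p s) (e : q ≈ₗ p) : Dg q s :=
  ⟨e.1.trans a.1, fun c hc => (e.bf (Eqv.refl _)).trans (a.2 c hc)⟩

theorem dg_one (hs : s ∈ CS) : Dg 1 s :=
  ⟨rfl, fun _ hc => by rw [bf_one, eq_comm, cast_even, even_iff_two_dvd]; exact even_card_inter hs hc⟩

theorem Dg.cs (a : Dg p s) (e : s ∆ t ∈ CS) : Dg p t := by simpa using a.mul (dg_one e)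

theorem dg_Z (k : Fin 12) : Dg (Z k) ({pt k} ∆ {pt 11}) := ⟨rfl, fun c hc => by
  rw [bf_Z, tw_a, ← word_dot, word_symmDiff, add_dotProduct]
  simp [dotProduct, word]⟩

theorem dg_xc : Dg xc ∅ := (dg_one empty_mem_CS).of_eqv ⟨rfl, rfl⟩

theorem dg_Z11 : Dg (Z 11) ∅ := by simpa using dg_Z 11

theorem Dg.smul (a : Dg p s) {γ : Gt} {σ : M24} (e : gOf γ = permHom σ) : Dg (γ • p) (σ.1 • s) :=
  ⟨smul_a_zero (e ▸ permHom_mem σ) a.1, fun c hc => by
    obtain ⟨c, rfl⟩ := MulAction.surjective σ.1 c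
    have hc' := (smul_mem_CS_iff σ.2).1 hc
    rw [← Leech.smul_inter, card_smul, ← a.2 c hc', ← bf_smul γ p]
    exact (Eqv.refl _).bf (by have := (smul_cls γ (tw hc')).symm; rwa [e, perm_tw] at this)⟩

theorem dg_f4 (hd : Even δ.card) : Dg (cls (L.f4 δ)) δ := ⟨cls_a_four (four_f4 hd), fun c hc => by
  rw [bf_cls, ← Int.cast_natCast, d8_eq_iff, dt, dotInt, ← sum_ind, Finset.mul_sum,
    Finset.sum_congr rfl fun i _ => ?_, sub_self]
  exacts [dvd_zero _, by rw [L.f4_apply hd, tw_apply, ← L.ind_mul]; ring]⟩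

theorem dg_t (i : Fin 3) : Dg (tL i) (TT i) := cls_TT i ▸ dg_f4 (even_TT i)

theorem Dg.eqv (a : Dg p δ) (b : Dg q δ) : p ≈ₗ q ∨ p ≈ₗ q * Z 11 := by
  have k : ∀ j : Fin 12, j ≠ 11 → p.b j = q.b j := fun j hj => by
    have e : isCode (enc (2 ^ j.1)) = true ∧ Mx.am (enc (2 ^ j.1)) = Pi.single j 1 := by
      revert j; decide +kernel
    simpa [e.2] using (a.mask e.1).trans (b.mask e.1).symm
  have : p.b 11 = q.b 11 ∨ p.b 11 = q.b 11 + 1 := by
    generalize p.b 11 = x; generalize q.b 11 = y; revert x y; decide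
  refine this.imp (fun e => ⟨a.1.trans b.1.symm, funext fun j => ?_⟩)
    fun e => ⟨by simp [a.1, b.1, Z], funext fun j => ?_⟩
  all_goals by_cases f : j = 11 <;> simp [f, e, k, Z]

theorem Dg.mem {R : Subgroup Lab} (hx : xc ∈ R) (hz : Z 11 ∈ R) (a : Dg p δ) (b : Dg q δ)
    (h : q ∈ R) : p ∈ R :=
  (a.eqv b).elim (mem_of_eqv hx · h) (mem_of_eqv hx · (mul_mem h hz))

theorem exists_dg (h : p.a = 0) : ∃ δ : Finset Pt, δ.card ≤ 4 ∧ Dg p δ := by
  obtain ⟨s, a⟩ := mem_of_Z (R := ⟨⟨⟨{p | ∃ s, Dg p s}, fun ⟨_, a⟩ ⟨_, b⟩ => ⟨_, a.mul b⟩⟩, _,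
    dg_one empty_mem_CS⟩, fun ⟨_, a⟩ => ⟨_, a.of_eqv (inv_eqv _)⟩⟩) ⟨_, dg_xc⟩ (fun k => ⟨_, dg_Z k⟩) h
  obtain ⟨t, b, e⟩ := exists_small s
  exact ⟨t, b, a.cs e⟩

theorem Dg.norm (a : Dg p δ) (n : δ.card ≠ 0) : ∃ v, nm v = 16 * δ.card ∧ p ≈ₗ cls v := by
  obtain ⟨j, hj⟩ := Finset.card_ne_zero.1 n
  have e : nm (L.f4 δ) = 16 * δ.card := by
    rw [nm, sqNorm, ← sum_ind, Finset.mul_sum]
    exact Finset.sum_congr rfl fun i _ => by rw [L.f4_apply a.even, ind]; split_ifs <;> rfl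
  refine (a.eqv (dg_f4 a.even)).elim (⟨_, e, ·⟩) fun f => ⟨L.f4 δ + -e8 j, ?_, f.trans ?_⟩
  · rw [nm_add, nm_neg, dt_neg_right, dt_e8, nm_e8, L.f4_apply a.even, ind, if_pos hj, e]; ring
  · have := (cls_add (L.f4 δ) (-e8 j)).symm
    rwa [cls_neg, cls_e8] at this

theorem Dg.R9 (a : Dg p δ) (l : δ ⊆ o1) : p ∈ R9 := by
  have k : ∀ m, isCode m = true ∧ Nat.land (enc 1) m = 0 → p.b ⬝ᵥ Mx.am m = 0 := fun m e => by
    rw [a.mask e.1, Finset.disjoint_iff_inter_eq_empty.1 (Finset.disjoint_of_subset_left l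
      ((ofMask_disjoint_iff (enc_lt (by norm_num))).2 e.2)), Finset.card_empty, Nat.cast_zero]
  have k0 := k 3715070 (by decide +kernel)
  have k1 := k 567074 (by decide +kernel)
  have k2 := k 1050548 (by decide +kernel)
  have k3 := k 3678776 (by decide +kernel)
  have k6 := k 3704512 (by decide +kernel)
  simp [dotProduct, Fin.sum_univ_succ, Mx.am, Mon.toZ, Nat.testBit, CharTwo.add_self_eq_zero]
    at k0 k1 k2 k3 k6
  exact mem_R9_of (fun k _ => by rw [a.1]; rfl) k0 (by simpa [add_assoc] using k1)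
    (by simpa [add_assoc] using k2) (by simpa [add_assoc] using k3) (by simpa [add_assoc] using k6)

/-! ### tetrads -/

theorem five {a b c d e : Pt} (n : a ≠ b ∧ a ≠ c ∧ a ≠ d ∧ b ≠ c ∧ b ≠ d ∧ c ≠ d)
    (he : e ∉ ({a, b, c, d} : Finset Pt)) : ∃ σ : M24, σ.1 • ({a, b, c, d} : Finset Pt) = TT 0 ∧
      σ.1 a = pt 0 ∧ σ.1 b = pt 1 ∧ σ.1 c = pt 2 ∧ σ.1 d = pt 3 ∧ σ.1 e = pt 4 := by
  simp only [Finset.mem_insert, Finset.mem_singleton, not_or] at he
  obtain ⟨g, hg, k⟩ := Comp.Mat.M24_five ![a, b, c, d, e] (fun i => pt i) (fun i j => by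
    fin_cases i <;> fin_cases j <;> simp <;> tauto) (by decide +kernel)
  refine ⟨⟨g, hg⟩, ?_, k 0, k 1, k 2, k 3, k 4⟩
  simp only [Finset.smul_finset_insert, Finset.smul_finset_singleton, Equiv.Perm.smul_def]
  rw [show g a = pt 0 from k 0, show g b = pt 1 from k 1, show g c = pt 2 from k 2,
    show g d = pt 3 from k 3]
  decide +kernel

theorem move1 (hδ : δ.card = 4) : ∃ σ : M24, σ.1 • δ = TT 0 := by
  obtain ⟨e, -, he⟩ := Finset.exists_mem_notMem_of_card_lt_card (s := δ) (t := Finset.univ)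
    (by rw [hδ, Finset.card_univ, card_pts]; norm_num)
  obtain ⟨a, b, c, d, n1, n2, n3, n4, n5, n6, rfl⟩ := Finset.card_eq_four.1 hδ
  exact (five ⟨n1, n2, n3, n4, n5, n6⟩ he).imp fun _ => And.left

theorem fix5 : ∀ f < 24, (5279).testBit f = true → 4 < f → ∃ g ∈ [608167165260361641911015062699608096,
    725895487971383339971559185675552800, 984818244535754528103549039458486304],
    isM24 g = true ∧ (∀ n < 5, ap g n = n) ∧ ap g f = 12 := by decide +kernel

theorem move2 (hδ : δ.card = 4) (hε : ε.card = 4) (n : δ ∆ ε ∉ CS)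
    (ev : ∀ o ∈ octads, ∀ t ⊆ o, t.card = 4 → δ ∆ t ∈ CS → Even (ε ∩ o).card) :
    ∃ (σ : M24) (t : Finset Pt), δ ∆ t ∈ CS ∧ σ.1 • t = TT 0 ∧ σ.1 • ε = TT 1 := by
  have S := sextetOf_mem hδ
  have dj := sextet_disjoint S
  obtain ⟨r, hr, er⟩ : ∃ r ∈ sextetOf δ, ε ∩ r = ∅ := by
    by_contra! k
    have := (Finset.card_le_card_biUnion (f := (ε ∩ ·)) (fun t a u b c => (dj t a u b c).mono
      Finset.inter_subset_right Finset.inter_subset_right) k).trans (Finset.card_le_card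
        (Finset.biUnion_subset.2 fun _ _ => Finset.inter_subset_left))
    rw [S.1] at this
    omega
  have two : ∀ t ∈ sextetOf δ, ∀ a ∈ ε, a ∈ t → (ε ∩ t).card = 2 := fun t ht a b c => by
    have m := Finset.mem_inter.2 ⟨b, c⟩
    have e := ev _ (S.2.2 t ht r hr fun e => by simp [e, er] at m) t Finset.subset_union_left
      (mem_sextetOf.1 ht).1 (mem_sextetOf.1 ht).2
    rw [Finset.inter_union_distrib_left, er, Finset.union_empty, Nat.even_iff] at e
    have f := Finset.card_pos.2 ⟨a, m⟩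
    have g : (ε ∩ t).card < ε.card := Finset.card_lt_card ⟨Finset.inter_subset_left, fun l => n
      (Finset.eq_of_subset_of_card_le (l.trans Finset.inter_subset_right)
        (by rw [S.2.1 t ht, hε]) ▸ (mem_sextetOf.1 ht).2)⟩
    omega
  obtain ⟨x, hx⟩ := Finset.card_pos.1 (hε ▸ four_pos)
  obtain ⟨t, ht, xt⟩ := sextet_cover S x
  have c1 := two t ht x hx xt
  obtain ⟨e, he, et⟩ := Finset.exists_mem_notMem_of_card_lt_card (s := ε ∩ t) (t := ε) (by omega)
  rw [Finset.mem_inter, not_and] at et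
  obtain ⟨u, hu, eu⟩ := sextet_cover S e
  have tu : t ≠ u := fun k => et he (k ▸ eu)
  obtain ⟨f, ef, k⟩ : ∃ f, e ≠ f ∧ ε ∩ u = {e, f} := by
    obtain ⟨a, b, c, d⟩ := Finset.card_eq_two.1 (two u hu e he eu)
    have := Finset.mem_inter.2 ⟨he, eu⟩
    rw [d, Finset.mem_insert, Finset.mem_singleton] at this
    rcases this with rfl | rfl
    exacts [⟨b, c, d⟩, ⟨a, c.symm, d.trans (Finset.pair_comm _ _)⟩]
  have hf := Finset.mem_inter.1 (k ▸ show f ∈ ({e, f} : Finset Pt) by simp)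
  have ft : f ∉ t := Finset.disjoint_right.1 (dj t ht u hu tu) hf.2
  obtain ⟨a, b, ab, k1⟩ := Finset.card_eq_two.1 c1
  obtain ⟨c, d, cd, k2⟩ := Finset.card_eq_two.1 (show (t \ ε).card = 2 by
    rw [Finset.card_sdiff, c1, S.2.1 t ht])
  have e1 : t = {a, b, c, d} := by
    rw [← Finset.sdiff_union_inter t ε, Finset.inter_comm, k1, k2]; ext; simp; tauto
  have m1 := Finset.ext_iff.1 k1
  have m2 := Finset.ext_iff.1 k2
  simp only [Finset.mem_inter, Finset.mem_sdiff, Finset.mem_insert, Finset.mem_singleton] at m1 m2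
  have e2 : ε = {a, b, e, f} := (Finset.eq_of_subset_of_card_le (by
    simp [Finset.insert_subset_iff, he, hf.1, ((m1 a).2 (by simp)).1, ((m1 b).2 (by simp)).1])
    (by rw [hε, Finset.card_eq_four.2 ⟨_, _, _, _, ab, ?_, ?_, ?_, ?_, ef, rfl⟩] <;> grind)).symm
  obtain ⟨σ, s0, sa, sb, sc, sd, se⟩ := five (a := a) (b := b) (c := c) (d := d) (e := e)
    (by grind) (e1 ▸ et he)
  have ho := smul_mem_octads σ.2 (S.2.2 t ht u hu tu)
  have eo := octad_eq_of_five_le ho (OO_oct 0) (le_trans (by decide +kernel) (Finset.card_le_card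
    (s := {pt 0, pt 1, pt 2, pt 3, pt 4}) (Finset.subset_inter ?_ (by decide +kernel))))
  · obtain ⟨n, hn, sf⟩ := exists_pt.1 (show ∃ y, σ.1 f = y from ⟨_, rfl⟩)
    have m : pt n ∈ OO 0 := by
      rw [← eo, ← sf, apply_mem_smul_finset]; exact Finset.mem_union_right _ hf.2
    obtain ⟨g, -, g1, g2, g3⟩ := fix5 n hn ((pt_mem_ofMask hn).1 m) (by
      by_contra! l
      have i := σ.1.injective
      interval_cases n <;> grind [Function.Injective])
    have P := fun i => permOf_pt (permCheck_of_isM24 g1) (i := i)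
    refine ⟨⟨_, permOf_mem_M24 g1⟩ * σ, t, (mem_sextetOf.1 ht).2, ?_, ?_⟩
    all_goals
      simp only [e1, e2, Finset.smul_finset_insert, Finset.smul_finset_singleton, Subgroup.coe_mul,
        Equiv.Perm.smul_def, Equiv.Perm.mul_apply, sa, sb, sc, sd, se, sf, P n hn, g3, P 0 (by omega),
        P 1 (by omega), P 2 (by omega), P 3 (by omega), P 4 (by omega), g2 0 (by omega),
        g2 1 (by omega), g2 2 (by omega), g2 3 (by omega), g2 4 (by omega)]
      decide +kernel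
  · rw [← sa, ← sb, ← sc, ← sd, ← se]
    simp [Finset.insert_subset_iff, apply_mem_smul_finset, e1, eu]

end CF.Mx
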