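import Cfsg.Agent.Mx.M2
import Cfsg.Agent.Mx.D

/-! Maximal 2-local subgroups of the Monster: singular subgroups in the model. -/

set_option autoImplicit false

namespace CF.Mx

open Cfsg Subgroup CF.Leech CF.Mon CF.Mon.G CF.Mon.L CF.Mon.Lab CF.Known.Mon CF.LX CF.Loc CF.Even
  Matrix
open scoped symmDiff Pointwise

section
variable {G : Type*} [Group G] [Finite G] {z g : G} {A T X Y : Subgroup G}

theorem conj_of_std {n : ℕ} (c : n ≤ Nat.card X)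
    (k : ∀ T, Sing z T → Nat.card T = n → ∃ g, X ≤ cj[g] T) :
    ∀ T T', Sing z T → Sing z T' → Nat.card T = n → Nat.card T' = n → ∃ g, T' = cj[g] T :=
  fun T T' a b d e => by
    obtain ⟨g, l⟩ := k T a d
    obtain ⟨g', l'⟩ := k T' b e
    refine ⟨g'⁻¹ * g, ?_⟩
    rw [cj_mul, ← eq_of_le_of_card_ge l (by rwa [card_cj, d]),
      eq_of_le_of_card_ge l' (by rwa [card_cj, e]), cj_inv_cj]

theorem card_ad_le (sq : ∀ a ∈ T, a * a = 1) (l : Y ≤ T) (hg : g ∈ T) :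
    Nat.card ↥(Y ⊔ zpowers g) ≤ 2 * Nat.card Y := by
  by_cases e : g ∈ Y
  · rw [sup_eq_left.2 (zpowers_le.2 e)]; omega
  · exact (card_ad (centralizer_le_normalizer _ fun y hy => comm_of_sq sq (l hy) hg) (sq g hg) e).le

omit [Finite G] in
theorem Ark.sing_of (k : Ark z A) (l : T ≤ A) (q : ∀ t ∈ T, t = 1 ∨ IsConj z t) : Sing z T :=
  fun t ht t1 => have c := (q t ht).resolve_left t1
    ⟨c, fun a ha => (k.memQ t (l ht) c a (l ha)).2 (by
      rw [bb, qq_of c, qq_eq_zero.2 (q a ha), qq_eq_zero.2 (q _ (mul_mem ht ha))]; rfl)⟩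

end

/-- labels with a vanishing coordinate -/
def Rb (k : Fin 12) : Subgroup Lab where
  carrier := {p | p.b k = 0}
  one_mem' := rfl
  mul_mem' a b := by simp_all
  inv_mem' a := (congrFun (inv_eqv _).2 k).trans a

instance (k : Fin 12) (p : Lab) : Decidable (p ∈ Rb k) := inferInstanceAs (Decidable (p.b k = 0))

/-- the labels of the standard four-group -/
def D0 : Subgroup Lab where
  carrier := {p | Dg p ∅}
  one_mem' := dg_one empty_mem_CS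
  mul_mem' a b := by simpa using Dg.mul a b
  inv_mem' a := Dg.of_eqv a (inv_eqv _)

theorem six {r : Ix} (H : ∀ m ∈ [3416079, 8536111, 4196943, 1413139, 2634003, 8524371],
    r ⬝ᵥ am m = 0) (e : ∀ j : Fin 6, r (![0, 1, 2, 6, 7, 11] j) = 0) : r = 0 := by
  simp [dotProduct, Fin.sum_univ_succ, am, Mon.toZ, Nat.testBit, CharTwo.add_self_eq_zero,
    Fin.forall_fin_succ] at H e
  obtain ⟨a, b, c, d, f, g⟩ := H
  obtain ⟨e0, e1, e2, e6, e7, e11⟩ := e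
  simp only [e0, e1, e2, zero_add] at a d
  simp only [e0, e1, e2, e6, a, d, zero_add] at b f g
  simp only [e7, d, b, f, zero_add] at c
  funext k
  fin_cases k <;> assumption

variable {Γ : Type*} [Group Γ] {ρ : Gt →* Γ} {τ : Γ} {p q : Lab} {δ ε o : Finset Pt}
  {T W Y : Subgroup Γ}

theorem Dg.memT (hx : ρ (pauli xc) ∈ T) (hz : ρ (pauli (Z 11)) ∈ T) (a : Dg p δ) (b : Dg q δ)
    (m : ρ (pauli q) ∈ T) : ρ (pauli p) ∈ T :=
  a.mem (R := T.comap (ρ.comp pauli)) hx hz b m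

theorem mv (σ : M24) (hx : ρ (pauli xc) ∈ T) (hz : ρ (pauli (Z 11)) ∈ T) :
    ∃ γ, gOf γ = permHom σ ∧ ρ (pauli xc) ∈ cj[ρ γ] T ∧ ρ (pauli (Z 11)) ∈ cj[ρ γ] T ∧
      ∀ {p q δ}, ρ (pauli q) ∈ T → Dg q δ → Dg p (σ.1 • δ) → ρ (pauli p) ∈ cj[ρ γ] T := by
  obtain ⟨γ, c, e⟩ := exists_C0 σ
  have a := conj_mem_cj (ρ γ) hx
  have b := conj_mem_cj (ρ γ) hz
  rw [rho_conj, smul_xc] at a
  rw [rho_conj, mem_Np.1 (C0_le_Np c)] at b
  exact ⟨γ, e, a, b, fun m d f => f.memT a b (d.smul e) (rho_conj (ρ := ρ) γ _ ▸ conj_mem_cj _ m)⟩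

variable (h : Out ρ τ)
include h

theorem mem_EE' {R : Subgroup Lab} : ρ (pauli p) ∈ EE ρ R ↔ p ∈ R :=
  mem_map_iff_mem (rho_pauli_injective h.x_ne)

theorem Dg.conj (a : Dg p δ) (c : δ.card = 4) : IsConj (ρ (pauli xc)) (ρ (pauli p)) := by
  have := h.finite
  obtain ⟨M, e, -⟩ := h.exists_MT
  obtain ⟨v, n, k⟩ := a.norm (by omega)
  exact ((M.conj_iff (pauli_mem_QQ ρ p)).2 ⟨v, by rw [n, c]; rfl, (e p).trans (lam_eq.2 k)⟩).1

theorem Dg.conj0 (a : Dg p ∅) : ρ (pauli p) = 1 ∨ IsConj (ρ (pauli xc)) (ρ (pauli p)) := by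
  have := h.finite
  rcases a.eqv (dg_one empty_mem_CS) with e | e <;> rcases e.cases with rfl | rfl
  exacts [Or.inl (by simp), Or.inr (by rw [mul_one]), Or.inr (by simpa using isConj_Z h), Or.inr (by
    simpa using (b0 h).mul (IsConj.refl _) (isConj_Z h) (pauli_mem h _) (Z_ne h).symm)]

variable (hx : ρ (pauli xc) ∈ T) (hz : ρ (pauli (Z 11)) ∈ T)
include hx hz

theorem le4 : 4 ≤ Nat.card T := by
  have := h.finite
  have s := (b0 h).sq (IsConj.refl _)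
  have := two_le (zpowers_le.2 hx) hz (by
    rw [mem_zp s, not_or]; exact ⟨(b0 h).ne (isConj_Z h), Z_ne h⟩)
  rwa [Nat.card_zpowers, orderOf_eq_prime (p := 2) (by rwa [sq]) h.x_ne] at this

theorem le8 (m : ρ (pauli q) ∈ T) (a : Dg q δ) (c : δ.card = 4) : 8 ≤ Nat.card T := by
  have := h.finite
  have b := le4 h (T := T ⊓ EE ρ D0) ⟨hx, (mem_EE' h).2 dg_xc⟩ ⟨hz, (mem_EE' h).2 dg_Z11⟩
  have := two_le (inf_le_left (b := EE ρ D0)) m fun k => by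
    have := card_of_mem_CS (mem_CS_of_even (s := δ) fun c hc => by
      rw [← even_iff_two_dvd, ← cast_even, ← a.2 c hc, And.right ((mem_EE' h).1 k.2) c hc]; simp)
    omega
  omega

theorem le16 (a : ρ (pauli (tL 0)) ∈ T) (b : ρ (pauli (tL 1)) ∈ T) : 16 ≤ Nat.card T := by
  have := h.finite
  have c := le8 h (T := T ⊓ EE ρ (Rb 7)) ⟨hx, (mem_EE' h).2 (by decide)⟩
    ⟨hz, (mem_EE' h).2 (by decide)⟩ ⟨a, (mem_EE' h).2 (by decide +kernel)⟩ (dg_t 0) (card_TT 0)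
  have := two_le (inf_le_left (b := EE ρ (Rb 7))) b fun k =>
    absurd ((mem_EE' h).1 k.2) (by decide +kernel)
  omega

theorem diag {u : Γ} (hu : u ∈ Lc T) : ∃ p, ρ (pauli p) = u ∧ p.a = 0 := by
  obtain ⟨p, rfl⟩ := (mem_QO_x h).1 (mem_Lc.1 hu _ hx h.x_ne)
  exact ⟨p, rfl, (diag_iff h).1 (mem_Lc.1 hu _ hz ((b0 h).ne (isConj_Z h)))⟩

theorem tet (n : Sing (ρ (pauli xc)) T) (yx : ρ (pauli xc) ∈ Y) (yz : ρ (pauli (Z 11)) ∈ Y)
    (c : Nat.card Y < Nat.card T) :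
    ∃ q δ, ρ (pauli q) ∈ T ∧ ρ (pauli q) ∉ Y ∧ Dg q δ ∧ δ.card = 4 := by
  have := h.finite
  obtain ⟨u, a, b⟩ := exists_not_mem c
  obtain ⟨q, rfl, e⟩ := diag h hx hz (n.le a)
  obtain ⟨δ, l, d⟩ := exists_dg e
  have e0 : δ.card ≠ 0 := fun k => b (d.memT yx yz (Finset.card_eq_zero.1 k ▸ dg_xc) yx)
  have e2 : δ.card ≠ 2 := fun k => by
    obtain ⟨v, f, g⟩ := d.norm e0
    exact h.not_conj_short ⟨v, by rw [f, k]; rfl, g⟩ (n _ a fun j => b (j ▸ one_mem _)).1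
  have := Nat.even_iff.1 d.even
  exact ⟨q, δ, a, b, d, by omega⟩

omit hx hz

theorem std4 (n : Sing (ρ (pauli xc)) T) (c : 4 ≤ Nat.card T) :
    ∃ g, ρ (pauli xc) ∈ cj[g] T ∧ ρ (pauli (Z 11)) ∈ cj[g] T := by
  have := h.finite
  obtain ⟨t, ht, t1, -⟩ := exists_ne (X := T) (by omega) 1
  obtain ⟨g, e⟩ := isConj_iff.1 (n t ht t1).1.symm
  have a := e ▸ conj_mem_cj g ht
  obtain ⟨s, hs, s1, sx⟩ := exists_ne (X := cj[g] T) (by rw [card_cj]; omega) (ρ (pauli xc))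
  obtain ⟨γ, f⟩ := to_Z h ((n.cj g _ a h.x_ne).2 hs) (n.cj g s hs s1).1 sx
  have b := conj_mem_cj (ρ γ) a
  rw [rho_conj, smul_xc] at b
  exact ⟨ρ γ * g, cj_mul (ρ γ) g T ▸ ⟨b, f ▸ conj_mem_cj _ hs⟩⟩

theorem card_Y (n : Sing (ρ (pauli xc)) T) (hx : ρ (pauli xc) ∈ T) (hz : ρ (pauli (Z 11)) ∈ T) :
    Nat.card ↥(zpowers (ρ (pauli xc)) ⊔ zpowers (ρ (pauli (Z 11)))) ≤ 4 := by
  have := h.finite
  have := card_ad_le ((b0 h).sing_sq n) (zpowers_le.2 hx) hz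
  rwa [Nat.card_zpowers, orderOf_eq_prime (p := 2) (by rw [sq, (b0 h).sq (IsConj.refl _)]) h.x_ne]
    at this

theorem s4 : ∀ T T', Sing (ρ (pauli xc)) T → Sing (ρ (pauli xc)) T' → Nat.card T = 4 →
    Nat.card T' = 4 → ∃ g, T' = cj[g] T :=
  have := h.finite
  conj_of_std (X := closure {ρ (pauli xc), ρ (pauli (Z 11))})
    (le4 h (subset_closure (by simp)) (subset_closure (by simp))) fun T n c =>
      (std4 h n c.ge).imp fun g k => by simpa [Set.insert_subset_iff] using k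

theorem s8 : ∀ T T', Sing (ρ (pauli xc)) T → Sing (ρ (pauli xc)) T' → Nat.card T = 8 →
    Nat.card T' = 8 → ∃ g, T' = cj[g] T :=
  have := h.finite
  conj_of_std (X := closure {ρ (pauli xc), ρ (pauli (Z 11)), ρ (pauli (tL 0))})
    (le8 h (subset_closure (by simp)) (subset_closure (by simp)) (subset_closure (by simp))
      (dg_t 0) (card_TT 0)) fun T n c => by
    obtain ⟨g, hx, hz⟩ := std4 h n (by omega)
    obtain ⟨q, δ, a, -, b, d⟩ := tet h hx hz (n.cj g) (mem_sup_left (mem_zpowers _))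
      (mem_sup_right (mem_zpowers _)) ((card_Y h (n.cj g) hx hz).trans_lt (by rw [card_cj]; omega))
    obtain ⟨σ, e⟩ := move1 d
    obtain ⟨γ, -, k1, k2, k3⟩ := mv σ hx hz
    exact ⟨ρ γ * g, cj_mul (ρ γ) g T ▸ (closure_le _).2 (by
      rintro _ (rfl | rfl | rfl); exacts [k1, k2, k3 a b (e ▸ dg_t 0)])⟩

variable (k : Ark (ρ (pauli xc)) (L.Out.E10 h))
include k

theorem exists_ark (ho : o ∈ octads) : ∃ A, Ark (ρ (pauli xc)) A ∧ ρ (pauli xc) ∈ A ∧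
    ρ (pauli (Z 11)) ∈ A ∧ ρ (pauli (cls (tw (mem_octads.1 ho).1))) ∈ A ∧
    ∀ {p δ}, Dg p δ → δ ⊆ o → ρ (pauli p) ∈ A := by
  obtain ⟨σ, rfl⟩ := G.exists_oct ho
  have m : ∀ p ∈ R9, ρ (pauli p) ∈ L.Out.E10 h := fun p hp => L.Out.EE_le h ((mem_EE' h).2 hp)
  obtain ⟨γ, e, a, b, c⟩ := mv σ (m _ xc_R9) (m _ Z11_R9)
  refine ⟨_, k.cj (ρ γ), a, b, mem_of_eqv (R := (cj[ρ γ] _).comap (ρ.comp pauli)) a (q := γ • X 0) ?_
    (show ρ (pauli _) ∈ _ from rho_conj (ρ := ρ) γ _ ▸ conj_mem_cj _ (m _ X0_R9)), fun {p δ} d l => ?_⟩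
  · have := (smul_cls γ (uV 0)).symm
    rwa [cls_uV, uV_zero, e, perm_tw] at this
  · obtain ⟨δ, rfl⟩ := MulAction.surjective σ.1 δ
    have l' := Finset.smul_finset_subset_smul_finset_iff.1 l
    have f := dg_f4 (card_smul σ.1 δ ▸ d.even)
    exact c (m _ (f.R9 l')) f d

theorem key (n : Sing (ρ (pauli xc)) T) (hx : ρ (pauli xc) ∈ T) (hz : ρ (pauli (Z 11)) ∈ T)
    (m : ρ (pauli q) ∈ T) (a : Dg q δ) (c : δ.card = 4) (ho : o ∈ octads) (l : δ ⊆ o)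
    (u : ρ (pauli p) ∈ Lc T) : bf p (cls (tw (mem_octads.1 ho).1)) = 0 := by
  have := h.finite
  obtain ⟨A, b, a1, a2, a3, a4⟩ := exists_ark h k ho
  have := b.h8 (b0 h) (n.mono inf_le_left) inf_le_right
    (le8 h ⟨hx, a1⟩ ⟨hz, a2⟩ ⟨m, a4 a l⟩ a c) (Lc_anti inf_le_left u) _ a3
  rwa [rho_pauli_mul, rho_pauli_mul, h.inj, eq_comm, G.comm_iff] at this

theorem s16 : ∀ T T', Sing (ρ (pauli xc)) T → Sing (ρ (pauli xc)) T' → Nat.card T = 16 →
    Nat.card T' = 16 → ∃ g, T' = cj[g] T :=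
  have := h.finite
  conj_of_std (X := closure {ρ (pauli xc), ρ (pauli (Z 11)), ρ (pauli (tL 0)), ρ (pauli (tL 1))})
    (le16 h (subset_closure (by simp)) (subset_closure (by simp)) (subset_closure (by simp))
      (subset_closure (by simp))) fun T n c => by
    obtain ⟨g, hx, hz⟩ := std4 h n (by omega)
    have n' := n.cj g
    have c4 := card_Y h n' hx hz
    have y1 := mem_sup_left (T := zpowers (ρ (pauli (Z 11)))) (mem_zpowers (ρ (pauli xc)))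
    have y2 := mem_sup_right (S := zpowers (ρ (pauli xc))) (mem_zpowers (ρ (pauli (Z 11))))
    obtain ⟨q, δ, a, -, b, d⟩ := tet h hx hz n' y1 y2 (c4.trans_lt (by rw [card_cj]; omega))
    have c8 := card_ad_le ((b0 h).sing_sq n') (sup_le (zpowers_le.2 hx) (zpowers_le.2 hz)) a
    obtain ⟨p, ε, a', f, b', d'⟩ := tet h hx hz n' (mem_sup_left y1) (mem_sup_left y2)
      (c8.trans_lt (by rw [card_cj]; omega))
    obtain ⟨σ, t, e, e0, e1⟩ := move2 d d' (fun e => f (b'.memT (mem_sup_left y1) (mem_sup_left y2)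
      (b.cs e) (mem_sup_right (mem_zpowers _)))) fun o ho t l t4 e => by
        rw [← cast_even, ← b'.2 _ (mem_octads.1 ho).1, key h k n' hx hz a (b.cs e) t4 ho l (n'.le a')]
    obtain ⟨γ, -, k1, k2, k3⟩ := mv σ hx hz
    exact ⟨ρ γ * g, cj_mul (ρ γ) g T ▸ (closure_le _).2 (by
      rintro _ (rfl | rfl | rfl | rfl)
      exacts [k1, k2, k3 a (b.cs e) (e0 ▸ dg_t 0), k3 a' b' (e1 ▸ dg_t 1)])⟩

theorem fano : ∃ T p, Sing (ρ (pauli xc)) T ∧ Nat.card T = 16 ∧ Nat.card (Lc T) ≤ 128 ∧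
    IsConj (ρ (pauli xc)) p ∧ p ∉ T ∧ p ∈ Lc T ∧ ∃ A : Fin 3 → Subgroup Γ, Function.Injective A ∧
      ∀ i, Ark (ρ (pauli xc)) (A i) ∧ T ≤ A i ∧ p ∈ A i := by
  have := h.finite
  choose A a0 a1 a2 a3 a4 using fun i => exists_ark h k (OO_oct i)
  have l : ∀ i, EE ρ R5 ≤ A i := fun i => by
    rintro _ ⟨p, hp, rfl⟩
    refine ind_R5 (P := fun p => ρ (pauli p) ∈ A i) (by simp) (fun p q a b => by
      simpa using mul_mem a b) (a1 i) (a2 i) (fun j => ?_) p hp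
    obtain ⟨u, -, b, c, d⟩ : ∃ u ∈ [15, 4115, 1045, 3416064, 1409024, 3735552, 8536096, 8520256,
        4342272], isCode (Nat.xor (tM j) u) = true ∧ u < 2 ^ 24 ∧ Nat.land u (oM i) = u := by
      revert i j; decide +kernel
    exact a4 i ((dg_t j).cs (ofMask_xor _ _ ▸ ofMask_mem_CS b)) ((ofMask_subset_iff c).2 d)
  have n : Sing (ρ (pauli xc)) (EE ρ R5) := (a0 0).sing_of (l 0) (by
    rintro _ ⟨p, hp, rfl⟩
    obtain ⟨m, a, b⟩ := ind_R5 (P := fun p => ∃ m ∈ [0, 15, 4115, 1045, 4124, 1050, 5126, 5129],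
      Dg p (ofMask m)) ⟨0, by simp, ofMask_zero ▸ dg_one empty_mem_CS⟩
      (fun p q ⟨a, b, c⟩ ⟨d, e, f⟩ => ⟨Nat.xor a d, by clear c f; revert a d; decide +kernel,
        ofMask_xor _ _ ▸ c.mul f⟩) ⟨0, by simp, ofMask_zero ▸ dg_xc⟩ ⟨0, by simp, ofMask_zero ▸ dg_Z11⟩
      (fun i => ⟨tM i, by revert i; decide, dg_t i⟩) p hp
    have : m = 0 ∨ (ofMask m).card = 4 := by clear b; revert m; decide +kernel
    exact this.elim (fun e => Dg.conj0 h (ofMask_zero ▸ e ▸ b)) fun e => Or.inr (b.conj h e))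
  have l' : EE ρ (R5 ⊓ Rb 4) ≤ EE ρ R5 := map_mono inf_le_left
  have hx := (mem_EE' h (R := R5 ⊓ Rb 4)).2 ⟨xc_R5, rfl⟩
  have hz := (mem_EE' h (R := R5 ⊓ Rb 4)).2 ⟨Z11_R5, rfl⟩
  have ht : ∀ i ≠ 2, ρ (pauli (tL i)) ∈ EE ρ (R5 ⊓ Rb 4) := fun i e =>
    (mem_EE' h).2 ⟨tL_mem i, show _ ∈ Rb 4 by revert i; decide +kernel⟩
  have p1 := (mem_EE' h).2 (tL_mem 2)
  have p2 : ρ (pauli (tL 2)) ∉ EE ρ (R5 ⊓ Rb 4) := fun e =>
    absurd ((mem_EE' h).1 e).2 (show _ ∉ Rb 4 by decide +kernel)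
  refine ⟨_, _, n.mono l', ?_, ?_, (dg_t 2).conj h (card_TT 2), p2, Lc_anti l' (n.le p1), A,
    fun i j e => by_contra fun f => ?_, fun i => ⟨a0 i, l'.trans (l i), l i p1⟩⟩
  · have := two_le l' p1 p2
    have := le16 h hx hz (ht 0 (by decide)) (ht 1 (by decide))
    rw [L.Out.card_EE h R5, card_R5] at *
    omega
  · choose P e f using fun u : Lc (EE ρ (R5 ⊓ Rb 4)) => diag h hx hz u.2
    have H : ∀ u, ∀ m ∈ [3416079, 8536111, 4196943, 1413139, 2634003, 8524371],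
        (P u).b ⬝ᵥ am m = 0 := fun u m hm => by
      obtain ⟨a, i, b, c⟩ : (isCode m = true ∧ pc m = 8) ∧ ∃ i ≠ 2, Nat.land (tM i) m = tM i := by
        revert m; decide +kernel
      rw [← Dg.am (f u) (ofMask_mem_CS a.1), key h k (n.mono l') hx hz (ht i b) (dg_t i) (card_TT i) (M.oct_of_check a)
        ((ofMask_subset_iff (tM_ok i).1).2 c) (e u ▸ u.2)]
    refine (Nat.card_le_card_of_injective (fun u => (((P u).s, fun j => (P u).b
      (![0, 1, 2, 6, 7, 11] j)) : ZMod 2 × (Fin 6 → ZMod 2))) fun u v g => ?_).trans (by simp)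
    refine Subtype.ext (e u ▸ e v ▸ congrArg _ (congrArg _ (Lab.ext ((f u).trans (f v).symm)
      (sub_eq_zero.1 (six (fun m hm => by rw [sub_dotProduct, H u m hm, H v m hm, sub_self])
        fun j => sub_eq_zero.2 (congrFun (congrArg Prod.snd g) j))) (congrArg Prod.fst g))))
  · have := (a0 j).halfA (a2 j) (isConj_Z h) (e ▸ a3 i) (a3 j)
    rw [rho_pauli_mul, diag_iff h, diag_iff h, diag_iff h, mul_a] at this
    simp only [OO, tw_am] at this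
    clear e
    revert i j
    decide +kernel

end CF.Mx
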