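import Cfsg.Agent.Mx.M0

/-! Maximal 2-local subgroups of the Monster: pure subgroups of the extraspecial group. -/

set_option autoImplicit false

namespace CF.Mx

open Cfsg Subgroup CF.Leech CF.Mon CF.Mon.G CF.Mon.L CF.Mon.Lab CF.Known.Mon CF.LX CF.Loc CF.Even
open CF.Mon.L.Out

namespace N1

theorem dt16 {x y : LL} (hx : nm x = 32) (hy : nm y = 32) (h : Short (cls x * cls y)) :
    dt x y = 16 ∨ dt x y = -16 := by
  obtain ⟨z, a, b⟩ := h.congr (cls_add x y)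
  rcases le_total (dt x y) 0 with c | c
  · have := nm_add x y
    rcases eq_or_neg_of_cls (by omega) (by omega) b.symm with e | e <;> rw [e] at a
    · omega
    · rw [nm_neg] at a; omega
  · have := nm_sub x y
    rw [← show cls (x - y) = cls (x + y) by rw [← cls_add_two (x - y) y]; congr 1; abel] at b
    rcases eq_or_neg_of_cls (by omega) (by omega) b.symm with e | e <;> rw [e] at a
    · omega
    · rw [nm_neg] at a; omega

theorem exists_vec {x : LL} {q : Lab} (hx : nm x = 32) (hq : Short q) (h : Short (cls x * q)) :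
    ∃ y, nm y = 32 ∧ q ≈ₗ cls y ∧ dt x y = -16 := by
  obtain ⟨y, a, b⟩ := hq
  rcases dt16 hx a (h.congr ((Eqv.refl _).mul b.symm)) with e | e
  · exact ⟨-y, by rwa [nm_neg], cls_neg y ▸ b, by rw [dt_neg_right, e]⟩
  · exact ⟨y, a, b, e⟩

theorem no3 {p q r : Lab} (hp : Short p) (hq : Short q) (hr : Short r) (a : Short (p * q))
    (b : Short (p * r)) (c : Short (q * r)) (d : Short (p * (q * r))) : False := by
  obtain ⟨y, y1, y2⟩ := hq
  obtain ⟨w, w1, w2, w3⟩ := exists_vec y1 hr (c.congr (y2.symm.mul (Eqv.refl _)))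
  obtain ⟨x, x1, x2⟩ := hp
  have e1 := dt16 x1 y1 (a.congr (x2.mul y2).symm)
  have e2 := dt16 x1 w1 (b.congr (x2.mul w2).symm)
  have e3 := dt16 x1 (y := y + w) (by rw [nm_add]; omega)
    (d.congr (x2.symm.mul ((cls_add y w).trans (y2.mul w2).symm)))
  rw [dt_add_right] at e3
  omega

theorem std {p q : Lab} (hp : Short p) (hq : Short q) (a : Short (p * q)) :
    ∃ γ : Gt, γ • p = tA ∧ γ • q = tB := by
  obtain ⟨x, x1, x2⟩ := hp
  obtain ⟨y, y1, y2, y3⟩ := exists_vec x1 hq (a.congr (x2.symm.mul (Eqv.refl _)))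
  obtain ⟨g, g1, g2⟩ := exists_smul_UW x1 y1 y3
  obtain ⟨k, k1, k2⟩ := exists_smul_UW nm_uA (v := -uB) (by rw [nm_neg, nm_uB])
    (by rw [dt_neg_right, dt_uA_uB])
  obtain ⟨γ, e⟩ := gOf_surjective (k⁻¹ * g)
  have e1 : γ • p ≈ₗ tA := (x2.smul γ).trans (by
    have := smul_cls γ x
    rwa [e, mul_smul, g1, ← k1, inv_smul_smul, cls_uA] at this)
  have e2 : γ • q ≈ₗ tB := (y2.smul γ).trans (by
    have := smul_cls γ y
    rwa [e, mul_smul, g2, ← k2, inv_smul_smul, cls_neg, cls_uB] at this)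
  have s : ∀ γ : Gt, γ • p = tA → γ • q ≈ₗ tB → ∃ γ : Gt, γ • p = tA ∧ γ • q = tB := fun γ a b => by
    rcases b.cases with b | b
    · exact ⟨γ, a, b⟩
    · exact ⟨pauli (X 2) * γ, by rw [mul_smul, a, pauli_smul_eq_iff, bf_2A], by
        rw [mul_smul, b, smul_xc_mul, pauli_smul_of_one bf_2B, ← mul_assoc, xc_mul_xc, one_mul]⟩
  rcases e1.cases with b | b
  · exact s γ b e2
  · exact s (pauli (X 0) * γ) (by
      rw [mul_smul, b, smul_xc_mul, pauli_smul_of_one bf_0A, ← mul_assoc, xc_mul_xc, one_mul])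
      (by rw [mul_smul, pauli_smul']; exact (xp_eqv _ _).trans e2)

/-- the labels of the standard pure four-group -/
def R4 : Subgroup Lab where
  carrier := {p | p = 1 ∨ p = tA ∨ p = tB ∨ p = tA * tB}
  one_mem' := Or.inl rfl
  mul_mem' := by
    rintro _ _ (rfl | rfl | rfl | rfl) (rfl | rfl | rfl | rfl) <;>
      simp only [Set.mem_ofPred_eq] <;> decide +kernel
  inv_mem' := by
    rintro _ (rfl | rfl | rfl | rfl) <;> simp only [Set.mem_ofPred_eq] <;> decide +kernel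

theorem card_R4 : Nat.card R4 = 4 := (Nat.card_coe_set_eq _).trans
  (Set.ncard_eq_four.2 ⟨1, tA, tB, tA * tB, by decide +kernel, by decide +kernel,
    by decide +kernel, by decide +kernel, by decide +kernel, by decide +kernel, rfl⟩)

theorem short_AB : Short (tA * tB) :=
  (short_cls (x := uA + -uB) (by rw [nm_add, nm_neg, dt_neg_right, nm_uA, nm_uB, dt_uA_uB]; rfl)).congr
    (by have := (cls_add uA (-uB)).symm; rwa [cls_neg, cls_uA, cls_uB] at this)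

variable {Γ : Type*} [Group Γ] {ρ : Gt →* Γ} {τ : Γ} (h : Out ρ τ)
include h

theorem short {E : Subgroup Γ} (k : Pure (ρ (pauli xc)) E) {p : Lab} (a : ρ (pauli p) ∈ E)
    (b : ρ (pauli p) ≠ 1) : Short p :=
  (MonU.cls_Q h.r0 (h.eq_one.1 ((rho_pauli_mul ρ p p).symm.trans (k _ a).1))
    (mt h.eq_one.2 b)).resolve_left (k _ a).2

theorem pure_of {R : Subgroup Lab} (k : ∀ p ∈ R, p = 1 ∨ Short p) : Pure (ρ (pauli xc)) (EE ρ R) := by
  rintro _ ⟨p, hp, rfl⟩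
  rcases k p hp with rfl | ⟨x, a, b⟩
  · exact ⟨by simp, by simpa using h.x_ne⟩
  · exact ⟨(rho_pauli_mul ρ p p).trans (h.eq_one.2 (G.sq_iff.2 (by
      rw [b.qf, qf_cls, nq_eq_zero, a]))), h.not_conj_short ⟨x, a, b⟩⟩

theorem EE_QO (R : Subgroup Lab) : EE ρ R ≤ QO (ρ (pauli xc)) := by
  rintro _ ⟨p, -, rfl⟩; exact pauli_mem h p

theorem to_R4 {E : Subgroup Γ} (l : E ≤ QO (ρ (pauli xc))) (k : Pure (ρ (pauli xc)) E)
    (c : Nat.card E = 4) : ∃ g, cj[g] E = EE ρ R4 := by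
  have := h.finite
  obtain ⟨a, a1, a2, -⟩ := exists_ne (X := E) (by omega) 1
  obtain ⟨b, b1, b2, b3⟩ := exists_ne (X := E) (by omega) a
  obtain ⟨p, rfl⟩ := (mem_QO_x h).1 (l a1)
  obtain ⟨q, rfl⟩ := (mem_QO_x h).1 (l b1)
  obtain ⟨γ, e, f⟩ := std (short h k a1 a2) (short h k b1 b2) (short h k
    (rho_pauli_mul ρ p q ▸ mul_mem a1 b1) (rho_pauli_mul ρ p q ▸ fun e => b3
      ((eq_inv_of_mul_eq_one_right e).trans (inv_eq (k _ a1).1))))
  have m1 := conj_mem_cj (ρ γ) a1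
  have m2 := conj_mem_cj (ρ γ) b1
  rw [rho_conj, e] at m1
  rw [rho_conj, f] at m2
  refine ⟨ρ γ, (eq_of_le_of_card_ge ?_ (by rw [card_cj, c, card_EE h, card_R4])).symm⟩
  rintro _ ⟨_, rfl | rfl | rfl | rfl, rfl⟩
  exacts [map_one (ρ.comp pauli) ▸ one_mem _, m1, m2, map_mul (ρ.comp pauli) tA tB ▸ mul_mem m1 m2]

theorem syl {K X : Subgroup Γ} {P : Subgroup Gt} (l : P.map ρ ≤ K) {a : ℕ}
    (c : 2 ^ a ∣ Nat.card (P.map ρ)) (d : ¬ 2 ^ (a + 1) ∣ Nat.card K) (hX : X ≤ K)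
    (p : IsPGroup 2 X) : ∃ g ∈ K, cj[g] X ≤ 𝐂₁(ρ (pauli xc)) := by
  have := h.finite
  obtain ⟨g, hg, e⟩ := Rk.exists_conj hX l p c d
  refine ⟨g, hg, ?_⟩
  rintro _ ⟨x, hx, rfl⟩
  exact h.cx.ge (map_le_range _ _ (e x hx))

end N1

open N1

variable {Γ : Type*} [Group Γ] {ρ : Gt →* Γ} {τ : Γ} (h : Out ρ τ)
include h

theorem two : ∀ a b : Γ, a * a = 1 → b * b = 1 → a ≠ 1 → b ≠ 1 → ¬ IsConj (ρ (pauli xc)) a →
    ¬ IsConj (ρ (pauli xc)) b → IsConj a b := fun _ _ a b c d e f =>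
  ((MonU.two_cls h a c).resolve_left e).symm.trans ((MonU.two_cls h b d).resolve_left f)

theorem a2 : ∃ E ≤ QO (ρ (pauli xc)), Pure (ρ (pauli xc)) E ∧ Nat.card E = 2 ∧
    ∀ X ≤ 𝐂(E), IsPGroup 2 X → ∃ g ∈ 𝐂(E), cj[g] X ≤ 𝐂₁(ρ (pauli xc)) := by
  refine ⟨zpowers (ρ (pauli tA)), zpowers_le.2 (pauli_mem h _), fun e he => ?_,
    by rw [Nat.card_zpowers, h.orderOf_t], ?_⟩
  · rcases (mem_zpowers_invol h.orderOf_t).1 he with rfl | rfl
    exacts [⟨by simp, by simpa using h.x_ne⟩, ⟨Out.tt, h.not_conj⟩]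
  · rw [zpowers_eq_closure, centralizer_closure, h.cA]
    exact fun X => syl h (P := PA) le_sup_left (a := 42) (by rw [h.card_PA]; norm_num)
      (by rw [h.card_A]; norm_num)

theorem a4 : ∃ E ≤ QO (ρ (pauli xc)), Pure (ρ (pauli xc)) E ∧ Nat.card E = 4 ∧
    ∀ X ≤ 𝐂(E), IsPGroup 2 X → ∃ g ∈ 𝐂(E), cj[g] X ≤ 𝐂₁(ρ (pauli xc)) := by
  refine ⟨EE ρ R4, EE_QO h _, pure_of h ?_, (card_EE h _).trans card_R4, ?_⟩
  · rintro _ (rfl | rfl | rfl | rfl)
    exacts [.inl rfl, .inr short_tA, .inr short_tB, .inr short_AB]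
  · rw [show 𝐂(EE ρ R4) = LB ρ τ by
      rw [← h.cB, ← h.cA]
      refine le_antisymm (fun g hg => ⟨mem_c1.2 (hg _ ⟨tA, by simp [R4], rfl⟩).symm,
        mem_c1.2 (hg _ ⟨tB, by simp [R4], rfl⟩).symm⟩) fun g hg => ?_
      have a : Commute (ρ (pauli tA)) g := (mem_c1.1 hg.1).symm
      have b : Commute (ρ (pauli tB)) g := (mem_c1.1 hg.2).symm
      rintro _ ⟨_, rfl | rfl | rfl | rfl, rfl⟩
      exacts [by simp, a, b, map_mul (ρ.comp pauli) tA tB ▸ a.mul_left b]]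
    exact fun X => syl h (P := PB) le_sup_left (a := 38) (by rw [h.card_PB]; norm_num)
      (by rw [h.card_L]; norm_num)

theorem p4 : ∀ E ≤ QO (ρ (pauli xc)), ∀ E' ≤ QO (ρ (pauli xc)), Pure (ρ (pauli xc)) E →
    Pure (ρ (pauli xc)) E' → Nat.card E = 4 → Nat.card E' = 4 → ∃ g, E' = cj[g] E :=
  fun E l E' l' k k' c c' => by
    obtain ⟨g, e⟩ := to_R4 h l k c
    obtain ⟨g', e'⟩ := to_R4 h l' k' c'
    exact ⟨g'⁻¹ * g, by rw [cj_mul, e, ← e', cj_inv_cj]⟩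

theorem p8 : ∀ E ≤ QO (ρ (pauli xc)), Pure (ρ (pauli xc)) E → Nat.card E ≤ 4 := fun E l k => by
  have := h.finite
  by_contra! c
  obtain ⟨a, a1, a2, -⟩ := exists_ne (X := E) (by omega) 1
  obtain ⟨b, b1, b2, b3⟩ := exists_ne (X := E) (by omega) a
  obtain ⟨d, d1, d2⟩ : ∃ d ∈ E, d ∉ ({1, a, b, a * b} : Set Γ) := by
    by_contra! m
    have := Set.ncard_le_ncard (s := (E : Set Γ)) m
    have := Set.ncard_insert_le 1 {a, b, a * b}
    have := Set.ncard_insert_le a {b, a * b}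
    have := Set.ncard_insert_le b {a * b}
    have := Set.ncard_singleton (a * b)
    change 4 < (E : Set Γ).ncard at c
    omega
  simp only [Set.mem_insert_iff, Set.mem_singleton_iff, not_or] at d2
  have n : ∀ {a b}, a ∈ E → b ≠ a → a * b ≠ 1 := fun a1 b3 e =>
    b3 ((eq_inv_of_mul_eq_one_right e).trans (inv_eq (k _ a1).1))
  obtain ⟨p, rfl⟩ := (mem_QO_x h).1 (l a1)
  obtain ⟨q, rfl⟩ := (mem_QO_x h).1 (l b1)
  obtain ⟨r, rfl⟩ := (mem_QO_x h).1 (l d1)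
  have s : ∀ {p q}, ρ (pauli p) ∈ E → ρ (pauli q) ∈ E → ρ (pauli q) ≠ ρ (pauli p) → Short (p * q) :=
    fun {p q} a b c => short h k (rho_pauli_mul ρ p q ▸ mul_mem a b) (rho_pauli_mul ρ p q ▸ n a c)
  exact no3 (short h k a1 a2) (short h k b1 b2) (short h k d1 d2.1) (s a1 b1 b3) (s a1 d1 d2.2.1)
    (s b1 d1 d2.2.2.1) (mul_assoc p q r ▸ s (rho_pauli_mul ρ p q ▸ mul_mem a1 b1) d1
      (rho_pauli_mul ρ p q ▸ d2.2.2.2))

end CF.Mx
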